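import Cfsg.Agent.Lib.ShultGross.Linear

/-!
The degree of an irreducible representation of a nondegenerate commutator section carrying an
operator without the eigenvalue one.
-/

set_option autoImplicit false
set_option linter.unusedSectionVars false

namespace Cfsg.Agent.ShultGross

open Module Finset
open scoped commutatorElement

theorem sum_range_shift {M : Type*} [AddCancelCommMonoid M] (g : ℕ → M) (N : ℕ) (h : g N = g 0) :
    ∑ j ∈ range N, g (j + 1) = ∑ j ∈ range N, g j := by
  have h1 := Finset.sum_range_succ g N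
  rw [Finset.sum_range_succ', h] at h1
  exact add_right_cancel h1

variable {K : Type*} [Field K] {Q : Type*} [Group Q] [Finite Q]

theorem geom_zero {z : K} {N : ℕ} (hz : z ^ N = 1) (h1 : z ≠ 1) : ∑ j ∈ range N, z ^ j = 0 := by
  have h2 := geom_sum_mul z N
  rw [hz, sub_self, mul_eq_zero] at h2
  exact h2.resolve_right (sub_ne_zero.mpr h1)

namespace Setup

variable {V : Type*} [AddCommGroup V] [Module K V] [Nontrivial V] [IsAlgClosed K]
  [FiniteDimensional K V] {ρ : Q →* Module.End K V} {Z1 : Subgroup Q} [Z1.Normal] {χ : Q → K}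
  {a : MulAut Q} {S : Module.End K V} {N : ℕ}
variable (h : Setup ρ Z1 χ a S N)
  (hirr : ∀ W : Submodule K V, W ≠ ⊥ → (∀ u, ∀ v ∈ W, ρ u v ∈ W) → W = ⊤)
include h hirr

omit h in
theorem schur (T : Module.End K V) (hT : ∀ w, ρ w * T = T * ρ w) :
    ∃ c : K, T = c • (1 : Module.End K V) := by
  obtain ⟨c, hc⟩ := Module.End.exists_eigenvalue T
  refine ⟨c, LinearMap.ext fun v => ?_⟩
  have htop := hirr (T.eigenspace c) hc fun u v hv => by
    rw [Module.End.mem_eigenspace_iff] at hv ⊢
    rw [← Module.End.mul_apply, ← hT, Module.End.mul_apply, hv, map_smul]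
  have hv : v ∈ T.eigenspace c := by rw [htop]; trivial
  rw [LinearMap.smul_apply, Module.End.one_apply]
  exact Module.End.mem_eigenspace_iff.mp hv

theorem span_eq_top : Submodule.span K (Set.range fun x : Q ⧸ Z1 => ρ x.out) = ⊤ := by
  classical
  haveI := Fintype.ofFinite Q
  haveI := Fintype.ofFinite Z1
  refine eq_top_iff.mpr fun T _ => ?_
  have key : ∀ u : Q, ∃ c : K,
      ∑ w : Q, ρ w * (T * ρ u⁻¹) * ρ w⁻¹ = c • (1 : Module.End K V) := by
    intro u
    refine schur hirr _ fun z => ?_
    rw [Finset.mul_sum, Finset.sum_mul]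
    refine Fintype.sum_equiv (Equiv.mulLeft z) _ _ fun w => ?_
    show _ = ρ (z * w) * (T * ρ u⁻¹) * ρ (z * w)⁻¹ * ρ z
    rw [mul_inv_rev, map_mul, map_mul, mul_assoc _ (ρ w⁻¹ * ρ z⁻¹), mul_assoc (ρ w⁻¹), rho_inv_mul,
      mul_one]
    simp only [mul_assoc]
  choose c hc using key
  have hne : (Nat.card Q : K) * (Nat.card Z1 : K) ≠ 0 := by
    refine mul_ne_zero h.cardQ fun h0 => h.cardQ ?_
    rw [← Z1.card_mul_index, Nat.cast_mul, h0, zero_mul]
  have hin : ∑ u : Q, c u • ρ u ∈ Submodule.span K (Set.range fun x : Q ⧸ Z1 => ρ x.out) := by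
    refine Submodule.sum_mem _ fun u _ => Submodule.smul_mem _ _ ?_
    rw [h.rho_eq u]
    exact Submodule.smul_mem _ _ (Submodule.subset_span ⟨_, rfl⟩)
  have heq : ∑ u : Q, c u • ρ u = ((Nat.card Q : K) * (Nat.card Z1 : K)) • T := by
    have h1 : ∀ u : Q, c u • ρ u = ∑ w : Q, pair χ u⁻¹ w⁻¹ • (ρ w * T * ρ w⁻¹) := by
      intro u
      rw [← smul_one_mul, ← hc, Finset.sum_mul]
      refine Finset.sum_congr rfl fun w _ => ?_
      have h2 := h.conj u⁻¹ w⁻¹
      rw [inv_inv] at h2
      calc ρ w * (T * ρ u⁻¹) * ρ w⁻¹ * ρ u = ρ w * T * (ρ u⁻¹ * ρ w⁻¹ * ρ u) := by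
            simp only [mul_assoc]
        _ = _ := by rw [h2, mul_smul_comm]
    rw [Finset.sum_congr rfl fun u _ => h1 u, Finset.sum_comm]
    have h3 : ∀ w : Q, ∑ u : Q, pair χ u⁻¹ w⁻¹ • (ρ w * T * ρ w⁻¹) =
        if w ∈ Z1 then (Nat.card Q : K) • T else 0 := by
      intro w
      rw [← Finset.sum_smul, Fintype.sum_equiv (Equiv.inv Q) (fun u => pair χ u⁻¹ w⁻¹)
        (fun u => pair χ u w⁻¹) (fun u => rfl), h.sum_pair_left]
      by_cases hw : w ∈ Z1
      · rw [if_pos (inv_mem hw), if_pos hw, h.scalar w hw, smul_one_mul, smul_mul_assoc]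
        congr 1
        have h4 := rho_mul_inv (ρ := ρ) w
        rw [h.scalar w hw, smul_one_mul] at h4
        calc χ w • (T * ρ w⁻¹) = T * (χ w • ρ w⁻¹) := (mul_smul_comm _ _ _).symm
          _ = T := by rw [h4, mul_one]
      · rw [if_neg fun hh => hw (inv_mem_iff.mp hh), if_neg hw, zero_smul]
    rw [Finset.sum_congr rfl fun w _ => h3 w, ← Finset.sum_filter, Finset.sum_const,
      ← Nat.cast_smul_eq_nsmul K, smul_smul, mul_comm]
    congr 3
    rw [Nat.card_eq_fintype_card, Fintype.card_subtype]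
  rw [heq] at hin
  have := Submodule.smul_mem _ ((Nat.card Q : K) * (Nat.card Z1 : K))⁻¹ hin
  rwa [inv_smul_smul₀ hne] at this

theorem index_eq : Z1.index = finrank K V * finrank K V := by
  classical
  haveI := Fintype.ofFinite (Q ⧸ Z1)
  have li : LinearIndependent K (fun x : Q ⧸ Z1 => ρ x.out) := by
    rw [Fintype.linearIndependent_iff]
    intro c hc x
    exact congrFun (h.indep (W := ⊤) (fun _ _ _ => trivial) top_ne_bot c
      (fun v _ => by rw [hc]; rfl)) x
  have h1 := finrank_span_eq_card li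
  rw [h.span_eq_top hirr, finrank_top, Module.finrank_linearMap, ← Nat.card_eq_fintype_card] at h1
  exact h1.symm

omit hirr in
/-- `X` is an upper bound for the commutant of `S`; the square of the degree is at most `(N-1)X`. -/
theorem sq_degree_le (C : Submodule K (Module.End K V))
    (hC : ∀ T : Module.End K V, S * T = T * S → T ∈ C) :
    finrank K V * finrank K V ≤ (N - 1) * finrank K C ∧ finrank K V ≤ finrank K C := by
  classical
  haveI : NeZero (N : K) := ⟨h.cardN⟩
  have hN : 0 < N := by have := h.one_lt; omega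
  haveI : NeZero N := ⟨hN.ne'⟩
  obtain ⟨w, hw⟩ := HasEnoughRootsOfUnity.exists_primitiveRoot K N
  let π : ℕ → Module.End K V := fun i =>
    (N : K)⁻¹ • ∑ j ∈ range N, ((w ^ i)⁻¹) ^ j • S ^ j
  have hw0 : ∀ i, w ^ i ≠ 0 := fun i => pow_ne_zero _ (hw.ne_zero hN.ne')
  have hwN : ∀ i, (w ^ i) ^ N = 1 := fun i => by
    rw [← pow_mul, mul_comm, pow_mul, hw.pow_eq_one, one_pow]
  have hπS : ∀ i, S * π i = (w ^ i) • π i := by
    intro i
    simp only [π, mul_smul_comm, Finset.mul_sum]
    rw [smul_comm]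
    congr 1
    conv_rhs => rw [← sum_range_shift (fun j => ((w ^ i)⁻¹) ^ j • S ^ j) N (by
      rw [inv_pow, hwN, h.spow, inv_one, pow_zero, pow_zero])]
    rw [Finset.smul_sum]
    refine Finset.sum_congr rfl fun j _ => ?_
    rw [smul_smul, pow_succ' _ j, ← mul_assoc, mul_inv_cancel₀ (hw0 i), one_mul, ← pow_succ']
  have hπ1 : ∑ i ∈ range N, π i = 1 := by
    simp only [π]
    rw [← Finset.smul_sum, Finset.sum_comm, Finset.sum_eq_single 0]
    · simp only [pow_zero, one_smul, Finset.sum_const, Finset.card_range]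
      rw [← Nat.cast_smul_eq_nsmul K, inv_smul_smul₀ h.cardN]
    · intro j hj hj0
      rw [← Finset.sum_smul]
      have e : ∀ i, ((w ^ i)⁻¹) ^ j = ((w ^ j)⁻¹) ^ i := fun i => by
        rw [inv_pow, inv_pow, ← pow_mul, ← pow_mul, mul_comm]
      rw [Finset.sum_congr rfl fun i _ => e i, geom_zero (by rw [inv_pow, hwN, inv_one]), zero_smul]
      exact inv_ne_one.mpr (hw.pow_ne_one_of_pos_of_lt hj0 (Finset.mem_range.mp hj))
    · exact fun h0 => absurd (Finset.mem_range.mpr hN) h0
  have hπ0 : π 0 = 0 := by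
    simp only [π, pow_zero, inv_one, one_pow, one_smul, h.ssum, smul_zero]
  have hsum : ∑ i : Fin (N - 1), π (i + 1) = 1 := by
    rw [Fin.sum_univ_eq_sum_range (fun i => π (i + 1))]
    have h2 := Finset.sum_range_succ' π (N - 1)
    rw [Nat.sub_add_cancel hN, hπ1, hπ0, add_zero] at h2
    exact h2.symm
  let P : Fin (N - 1) → Submodule K V := fun i => S.eigenspace (w ^ ((i : ℕ) + 1))
  have hmem : ∀ i v, π ((i : Fin (N - 1)) + 1) v ∈ P i := fun i v => by
    rw [Module.End.mem_eigenspace_iff, ← Module.End.mul_apply, hπS, LinearMap.smul_apply]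
  have hSj : ∀ i, ∀ v ∈ P i, ∀ j : ℕ, (S ^ j) v = (w ^ ((i : ℕ) + 1)) ^ j • v := by
    intro i v hv j
    induction j with
    | zero => rw [pow_zero, pow_zero, one_smul, Module.End.one_apply]
    | succ j ih =>
      rw [pow_succ' S j, Module.End.mul_apply, ih, map_smul, Module.End.mem_eigenspace_iff.mp hv,
        smul_smul, ← pow_succ]
  have horth : ∀ i k, ∀ v ∈ P i, π ((k : Fin (N - 1)) + 1) v = if i = k then v else 0 := by
    intro i k v hv
    show ((N : K)⁻¹ • ∑ j ∈ range N, ((w ^ ((k : ℕ) + 1))⁻¹) ^ j • S ^ j) v = _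
    simp only [LinearMap.smul_apply, LinearMap.sum_apply, hSj i v hv, smul_smul, ← mul_pow,
      ← Finset.sum_smul]
    by_cases hik : i = k
    · subst hik
      rw [if_pos rfl, inv_mul_cancel₀ (hw0 _)]
      simp only [one_pow, Finset.sum_const, Finset.card_range, nsmul_one,
        inv_mul_cancel₀ h.cardN, one_smul]
    · rw [if_neg hik, geom_zero, mul_zero, zero_smul]
      · rw [mul_pow, inv_pow, hwN, hwN, inv_one, mul_one]
      · intro e
        apply hik
        rw [inv_mul_eq_one₀ (hw0 _)] at e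
        have hi : (i : ℕ) + 1 < N := by have := i.isLt; omega
        have hk : (k : ℕ) + 1 < N := by have := k.isLt; omega
        have := hw.pow_inj hk hi e
        exact Fin.ext (by omega)
  -- the whole space
  have hd : finrank K V ≤ ∑ i, finrank K (P i) := by
    let F : (∀ i, P i) →ₗ[K] V := ∑ i, (P i).subtype.comp (LinearMap.proj i)
    have hF : Function.Surjective F := fun v => ⟨fun i => ⟨_, hmem i v⟩, by
      simp only [F, LinearMap.sum_apply, LinearMap.comp_apply, LinearMap.proj_apply,
        Submodule.subtype_apply]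
      rw [← LinearMap.sum_apply, hsum, Module.End.one_apply]⟩
    have h1 := LinearMap.finrank_range_le F
    rw [LinearMap.range_eq_top.mpr hF, finrank_top, Module.finrank_pi_fintype] at h1
    exact h1
  -- block diagonal maps
  have hc : ∑ i, finrank K (P i) ^ 2 ≤ finrank K C := by
    let G : (∀ i, (P i →ₗ[K] P i)) →ₗ[K] Module.End K V :=
      { toFun := fun f => ∑ i, (P i).subtype.comp
          ((f i).comp (LinearMap.codRestrict (P i) (π ((i : ℕ) + 1)) (hmem i)))
        map_add' := fun f g => by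
          simp only [Pi.add_apply, LinearMap.add_comp, LinearMap.comp_add, Finset.sum_add_distrib]
        map_smul' := fun c f => by
          simp only [Pi.smul_apply, LinearMap.smul_comp, LinearMap.comp_smul, Finset.smul_sum,
            RingHom.id_apply] }
    have hGC : ∀ f, G f ∈ C := by
      intro f
      refine hC _ (LinearMap.ext fun v => ?_)
      simp only [G, LinearMap.coe_mk, AddHom.coe_mk, Module.End.mul_apply, LinearMap.sum_apply,
        LinearMap.comp_apply, Submodule.subtype_apply, map_sum]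
      refine Finset.sum_congr rfl fun i _ => ?_
      rw [Module.End.mem_eigenspace_iff.mp (Subtype.mem _)]
      have hcomm : S * π ((i : ℕ) + 1) = π ((i : ℕ) + 1) * S := by
        simp only [π, mul_smul_comm, smul_mul_assoc, Finset.mul_sum, Finset.sum_mul, ← pow_succ,
          ← pow_succ']
      have h1 : LinearMap.codRestrict (P i) (π ((i : ℕ) + 1)) (hmem i) (S v) =
          (w ^ ((i : ℕ) + 1)) • LinearMap.codRestrict (P i) (π ((i : ℕ) + 1)) (hmem i) v := by
        apply Subtype.ext
        show π ((i : ℕ) + 1) (S v) = _ • π ((i : ℕ) + 1) v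
        rw [← Module.End.mul_apply, ← hcomm, hπS, LinearMap.smul_apply]
      rw [h1, map_smul, Submodule.coe_smul]
    have hinj : Function.Injective (LinearMap.codRestrict C G hGC) := by
      rw [← LinearMap.ker_eq_bot, LinearMap.ker_codRestrict, LinearMap.ker_eq_bot']
      intro f hf
      funext k
      refine LinearMap.ext fun v => Subtype.ext ?_
      have h1 := LinearMap.congr_fun hf (v : V)
      simp only [G, LinearMap.coe_mk, AddHom.coe_mk, LinearMap.sum_apply, LinearMap.comp_apply,
        Submodule.subtype_apply, LinearMap.zero_apply] at h1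
      rw [Finset.sum_eq_single k] at h1
      · have h2 : LinearMap.codRestrict (P k) (π ((k : ℕ) + 1)) (hmem k) (v : V) = v :=
          Subtype.ext (by simpa using horth k k v v.2)
        rw [h2] at h1
        exact h1
      · intro i _ hik
        have h2 : LinearMap.codRestrict (P i) (π ((i : ℕ) + 1)) (hmem i) (v : V) = 0 :=
          Subtype.ext (by simpa [Ne.symm hik] using horth k i v v.2)
        rw [h2, map_zero]; rfl
      · exact fun hn => absurd (Finset.mem_univ k) hn
    have h1 := LinearMap.finrank_le_finrank_of_injective hinj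
    rw [Module.finrank_pi_fintype] at h1
    simp only [Module.finrank_linearMap] at h1
    simpa only [sq] using h1
  refine ⟨?_, hd.trans ((Finset.sum_le_sum fun i _ => Nat.le_self_pow two_ne_zero _).trans hc)⟩
  calc finrank K V * finrank K V ≤ (∑ i, finrank K (P i)) ^ 2 := by rw [sq]; gcongr
    _ ≤ (Finset.univ : Finset (Fin (N - 1))).card * ∑ i, finrank K (P i) ^ 2 :=
        sq_sum_le_card_mul_sum_sq
    _ ≤ (N - 1) * finrank K C := by
        rw [Finset.card_univ, Fintype.card_fin]
        exact Nat.mul_le_mul_left _ hc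

/-- The degree bounds in the irreducible case. -/
theorem degree_irr (htop : Z1 ≠ ⊤) :
    ∃ d t : ℕ, 2 ≤ d ∧ d ≤ N - 1 ∧ d * d = 1 + N * t ∧ Z1.index = d * d ∧ d ≤ t + 1 := by
  classical
  haveI := Fintype.ofFinite Q
  haveI := Fintype.ofFinite (Q ⧸ Z1)
  have hN : 0 < N := by have := h.one_lt; omega
  have hwd : Z1.map a.toMonoidHom = Z1 := by
    refine le_antisymm ?_ fun z hz => ⟨a.symm z, ?_, a.apply_symm_apply z⟩
    · rintro _ ⟨z, hz, rfl⟩; exact (h.inv z).mpr hz
    · exact (h.inv _).mp (by rwa [a.apply_symm_apply])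
  set ab : MulAut (Q ⧸ Z1) := QuotientGroup.congr Z1 Z1 a hwd with hab
  have habmk : ∀ u : Q, ab (u : Q ⧸ Z1) = ((a u : Q) : Q ⧸ Z1) := fun u => rfl
  have habpow : ∀ (j : ℕ) (u : Q), (ab ^ j) (u : Q ⧸ Z1) = (((a ^ j) u : Q) : Q ⧸ Z1) := by
    intro j
    induction j with
    | zero => intro u; rfl
    | succ j ih => intro u; rw [pow_succ, pow_succ, MulAut.mul_apply, habmk, ih]; rfl
  have habN : ab ^ N = 1 := by
    refine MulEquiv.ext fun x => ?_
    rw [← QuotientGroup.out_eq' x, habpow, h.apow]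
    rfl
  have hfree : ∀ j, 0 < j → j < N → ∀ x : Q ⧸ Z1, (ab ^ j) x = x → x = 1 := by
    intro j h0 hj x hx
    rw [← QuotientGroup.out_eq' x] at hx ⊢
    rw [habpow] at hx
    exact (QuotientGroup.eq_one_iff _).mpr (h.fpf j h0 hj _ (QuotientGroup.eq.mp hx.symm))
  let H : Subgroup (MulAut (Q ⧸ Z1)) := Subgroup.zpowers ab
  let O := MulAction.orbitRel.Quotient H (Q ⧸ Z1)
  haveI : Fintype O := Fintype.ofFinite O
  let o1 : O := Quotient.mk'' (1 : Q ⧸ Z1)
  have hrep : ∀ x : Q ⧸ Z1, ∃ j : Fin N,
      (ab ^ (j : ℕ)) (Quotient.mk'' x : O).out = x := by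
    intro x
    have h1 : (Quotient.mk'' (Quotient.mk'' x : O).out : O) = Quotient.mk'' x := Quotient.out_eq' _
    have h2 := MulAction.orbitRel_apply.mp (Quotient.eq''.mp h1)
    obtain ⟨⟨g, hg⟩, hgx⟩ := MulAction.mem_orbit_iff.mp (MulAction.mem_orbit_symm.mp h2)
    obtain ⟨k, rfl⟩ := hg
    have hk0 : 0 ≤ k % (N : ℤ) := Int.emod_nonneg _ (by omega)
    have hk1 : k % (N : ℤ) < N := Int.emod_lt_of_pos _ (by omega)
    refine ⟨⟨(k % (N : ℤ)).toNat, by omega⟩, ?_⟩
    show (ab ^ (k % (N : ℤ)).toNat) _ = x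
    rw [← zpow_natCast, Int.toNat_of_nonneg hk0, ← zpow_eq_zpow_emod' k habN]
    exact hgx
  -- counting
  let O' := {o : O // o ≠ o1}
  have hone : ∀ (j : ℕ) (o : O), (ab ^ j) o.out = 1 → o = o1 := by
    intro j o ho
    have : o.out = 1 := (ab ^ j).map_eq_one_iff.mp ho
    rw [← Quotient.out_eq' o, this]
  let Φ : Option (Fin N × O') → Q ⧸ Z1 := fun
    | none => 1
    | some p => (ab ^ (p.1 : ℕ)) (p.2 : O).out
  have hΦ : Function.Bijective Φ := by
    constructor
    · rintro (_ | ⟨j, o⟩) (_ | ⟨j', o'⟩) he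
      · rfl
      · exact absurd (hone _ _ he.symm) o'.2
      · exact absurd (hone _ _ he) o.2
      · have he' : (ab ^ (j : ℕ)) (o : O).out = (ab ^ (j' : ℕ)) (o' : O).out := he
        have hoo : (o : O) = o' := by
          rw [← Quotient.out_eq' (o : O), ← Quotient.out_eq' (o' : O)]
          refine Quotient.eq''.mpr (MulAction.orbitRel_apply.mpr (MulAction.mem_orbit_iff.mpr
            ⟨⟨(ab ^ (j : ℕ))⁻¹ * ab ^ (j' : ℕ), mul_mem (inv_mem (pow_mem (Subgroup.mem_zpowers ab) _))
              (pow_mem (Subgroup.mem_zpowers ab) _)⟩, ?_⟩))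
          show ((ab ^ (j : ℕ))⁻¹ * ab ^ (j' : ℕ)) _ = _
          rw [MulAut.mul_apply, ← he', MulAut.inv_apply, MulEquiv.symm_apply_apply]
        obtain rfl : o = o' := Subtype.ext hoo
        have hjj : j = j' := by
          by_contra hne
          rcases Nat.lt_or_gt_of_ne (fun e => hne (Fin.ext e)) with hlt | hlt
          · rw [show (j' : ℕ) = (j : ℕ) + ((j' : ℕ) - j) by omega, pow_add, MulAut.mul_apply] at he'
            have := hfree _ (by omega) (by have := j'.isLt; omega) _ ((ab ^ (j : ℕ)).injective he').symm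
            exact o.2 (hone 0 _ (by rw [pow_zero, this]; rfl))
          · rw [show (j : ℕ) = (j' : ℕ) + ((j : ℕ) - j') by omega, pow_add, MulAut.mul_apply] at he'
            have := hfree _ (by omega) (by have := j.isLt; omega) _ ((ab ^ (j' : ℕ)).injective he')
            exact o.2 (hone 0 _ (by rw [pow_zero, this]; rfl))
        rw [hjj]
    · intro x
      by_cases hx : x = 1
      · exact ⟨none, hx.symm⟩
      · obtain ⟨j, hj⟩ := hrep x
        refine ⟨some (j, ⟨Quotient.mk'' x, fun e => hx ?_⟩), hj⟩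
        have h2 := MulAction.orbitRel_apply.mp (Quotient.eq''.mp e)
        obtain ⟨g, hg⟩ := MulAction.mem_orbit_iff.mp h2
        rw [← hg]
        exact map_one (g : MulAut (Q ⧸ Z1))
  have hcard : Z1.index = 1 + N * Fintype.card O' := by
    rw [Subgroup.index, Nat.card_eq_fintype_card, ← Fintype.card_of_bijective hΦ, Fintype.card_option,
      Fintype.card_prod, Fintype.card_fin, add_comm]
  have hO : Fintype.card O = Fintype.card O' + 1 := by
    rw [← Fintype.card_option]
    exact Fintype.card_congr (Equiv.optionSubtypeNe o1).symm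
  -- averaging
  let A : Module.End K V →ₗ[K] Module.End K V :=
    { toFun := fun T => ∑ j ∈ range N, S ^ j * T * S ^ (N - j)
      map_add' := fun T T' => by simp only [mul_add, add_mul, Finset.sum_add_distrib]
      map_smul' := fun c T => by
        simp only [mul_smul_comm, smul_mul_assoc, Finset.smul_sum, RingHom.id_apply] }
  have hAshift : ∀ u, A (ρ (a u)) = A (ρ u) := by
    intro u
    have h1 : ρ (a u) = S * ρ u * S ^ (N - 1) := by
      rw [h.compat, mul_assoc, ← pow_succ', Nat.sub_add_cancel hN, h.spow, mul_one]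
    show ∑ j ∈ range N, S ^ j * ρ (a u) * S ^ (N - j) = ∑ j ∈ range N, S ^ j * ρ u * S ^ (N - j)
    rw [← sum_range_shift (fun j => S ^ j * ρ u * S ^ (N - j)) N (by
      simp only [Nat.sub_self, Nat.sub_zero, pow_zero, h.spow])]
    refine Finset.sum_congr rfl fun j hj => ?_
    have hj' := Finset.mem_range.mp hj
    rw [h1, show N - j = N - (j + 1) + 1 by omega, pow_succ S j]
    calc S ^ j * (S * ρ u * S ^ (N - 1)) * S ^ (N - (j + 1) + 1)
        = S ^ j * S * ρ u * (S ^ (N - 1) * S ^ (N - (j + 1) + 1)) := by simp only [mul_assoc]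
      _ = _ := by
        rw [← pow_add, show N - 1 + (N - (j + 1) + 1) = N + (N - (j + 1)) by omega, pow_add, h.spow,
          one_mul]
  have hApow : ∀ (j : ℕ) u, A (ρ ((a ^ j) u)) = A (ρ u) := by
    intro j
    induction j with
    | zero => intro u; rfl
    | succ j ih => intro u; rw [pow_succ', MulAut.mul_apply, hAshift, ih]
  let C : Submodule K (Module.End K V) := Submodule.span K (Set.range fun o : O => A (ρ o.out.out))
  have hC : ∀ T : Module.End K V, S * T = T * S → T ∈ C := by
    intro T hT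
    have hAC : ∀ T' : Module.End K V, A T' ∈ C := by
      intro T'
      have hT' : T' ∈ Submodule.span K (Set.range fun x : Q ⧸ Z1 => ρ x.out) := by
        rw [h.span_eq_top hirr]; trivial
      have h1 := Submodule.mem_map_of_mem (f := A) hT'
      rw [Submodule.map_span] at h1
      refine (Submodule.span_le.mpr ?_) h1
      rintro _ ⟨_, ⟨x, rfl⟩, rfl⟩
      obtain ⟨j, hj⟩ := hrep x
      set r := (Quotient.mk'' x : O).out with hr
      have h2 : (((a ^ (j : ℕ)) r.out : Q) : Q ⧸ Z1) = x := by
        rw [← habpow, QuotientGroup.out_eq', hj]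
      have h3 := h.rho_eq ((a ^ (j : ℕ)) r.out)
      rw [h2] at h3
      have h4 : A (ρ r.out) = phase Z1 χ ((a ^ (j : ℕ)) r.out) • A (ρ x.out) := by
        rw [← hApow j, h3, map_smul]
      show A (ρ x.out) ∈ C
      rw [← inv_smul_smul₀ (h.phase_ne_zero ((a ^ (j : ℕ)) r.out)) (A (ρ x.out)), ← h4]
      exact Submodule.smul_mem _ _ (Submodule.subset_span ⟨_, rfl⟩)
    have hTT : A T = (N : K) • T := by
      show ∑ j ∈ range N, S ^ j * T * S ^ (N - j) = _
      rw [Finset.sum_congr rfl (fun j hj => show S ^ j * T * S ^ (N - j) = T by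
        rw [((Commute.pow_left (hT : Commute S T)) j).eq, mul_assoc, ← pow_add,
          Nat.add_sub_cancel' (Finset.mem_range.mp hj).le, h.spow, mul_one]),
        Finset.sum_const, Finset.card_range, ← Nat.cast_smul_eq_nsmul K]
    have := C.smul_mem (N : K)⁻¹ (hAC T)
    rwa [hTT, inv_smul_smul₀ h.cardN] at this
  obtain ⟨hbound, hdC⟩ := h.sq_degree_le C hC
  have hCle : finrank K C ≤ Fintype.card O' + 1 := hO ▸ finrank_range_le_card _
  have hidx := h.index_eq hirr
  have h2 : 2 ≤ finrank K V := by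
    by_contra hlt
    apply htop
    rw [← Subgroup.index_eq_one, hidx]
    have := Module.finrank_pos (R := K) (M := V)
    have : finrank K V = 1 := by omega
    rw [this]
  refine ⟨finrank K V, Fintype.card O', h2, ?_, hidx ▸ hcard, hidx, hdC.trans hCle⟩
  rw [← hidx, hcard] at hbound
  have hb := hbound.trans (Nat.mul_le_mul_left _ hCle)
  have hdd : finrank K V * finrank K V = 1 + N * Fintype.card O' := hidx ▸ hcard
  obtain ⟨M, rfl⟩ : ∃ M, N = M + 1 := ⟨N - 1, by omega⟩
  simp only [Nat.add_sub_cancel] at hb ⊢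
  have h1lt := h.one_lt
  have ht : Fintype.card O' + 1 ≤ M := by nlinarith
  by_contra hlt
  have h3 : M + 1 ≤ finrank K V := by omega
  have h4 := Nat.mul_le_mul h3 h3
  nlinarith

end Setup

namespace Setup

variable {V : Type*} [AddCommGroup V] [Module K V] [Nontrivial V] [IsAlgClosed K]
  [FiniteDimensional K V] {ρ : Q →* Module.End K V} {Z1 : Subgroup Q} [Z1.Normal] {χ : Q → K}
  {a : MulAut Q} {S : Module.End K V} {N : ℕ}

/-- The degree bounds. -/
theorem degree_strong (h : Setup ρ Z1 χ a S N) (htop : Z1 ≠ ⊤) :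
    ∃ d t : ℕ, 2 ≤ d ∧ d ≤ N - 1 ∧ d * d = 1 + N * t ∧ Z1.index = d * d ∧ d ≤ t + 1 := by
  obtain ⟨W, hW0, hWQ, hWS, hWmin⟩ := h.exists_irreducible
  haveI : Nontrivial W := Submodule.nontrivial_iff_ne_bot.mpr hW0
  let ρ' : Q →* Module.End K W :=
    { toFun := fun u => (ρ u).restrict (hWQ u)
      map_one' := LinearMap.ext fun v => Subtype.ext (by
        rw [LinearMap.restrict_apply]
        show ρ 1 v.1 = v.1
        rw [map_one, Module.End.one_apply])
      map_mul' := fun u u' => LinearMap.ext fun v => Subtype.ext (by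
        show ρ (u * u') v.1 = ρ u (ρ u' v.1)
        rw [map_mul, Module.End.mul_apply]) }
  let S' : Module.End K W := S.restrict hWS
  have hSp : ∀ (j : ℕ) (v : W), ((S' ^ j) v : V) = (S ^ j) (v : V) := by
    intro j
    induction j with
    | zero => intro v; rfl
    | succ j ih =>
      intro v
      rw [pow_succ', pow_succ', Module.End.mul_apply, Module.End.mul_apply, ← ih]
      rfl
  have h' : Setup ρ' Z1 χ a S' N :=
    { h with
      scalar := fun z hz => LinearMap.ext fun v => Subtype.ext (by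
        show ρ z v.1 = χ z • v.1
        rw [h.scalar z hz, LinearMap.smul_apply, Module.End.one_apply])
      compat := fun u => LinearMap.ext fun v => Subtype.ext (by
        show S (ρ u v.1) = ρ (a u) (S v.1)
        rw [← Module.End.mul_apply, h.compat, Module.End.mul_apply])
      spow := LinearMap.ext fun v => Subtype.ext (by
        rw [hSp, h.spow]; rfl)
      ssum := LinearMap.ext fun v => Subtype.ext (by
        rw [LinearMap.sum_apply, AddSubmonoidClass.coe_finsetSum]
        simp only [hSp]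
        rw [← LinearMap.sum_apply, h.ssum]; rfl) }
  refine h'.degree_irr (fun W' hne hinv => ?_) htop
  have h1 : W'.map W.subtype = W := by
    refine hWmin _ (Submodule.map_subtype_le W W') ?_ ?_
    · intro e
      exact hne (Submodule.map_injective_of_injective W.injective_subtype (by rw [e, Submodule.map_bot]))
    · rintro u _ ⟨v, hv, rfl⟩
      exact ⟨ρ' u v, hinv u v hv, rfl⟩
  exact Submodule.map_injective_of_injective W.injective_subtype (by rw [h1, Submodule.map_subtype_top])

/-- The degree bound. -/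
theorem degree (h : Setup ρ Z1 χ a S N) (htop : Z1 ≠ ⊤) :
    ∃ d t : ℕ, 2 ≤ d ∧ d ≤ N - 1 ∧ d * d = 1 + N * t ∧ Z1.index = d * d := by
  obtain ⟨d, t, h1, h2, h3, h4, -⟩ := h.degree_strong htop
  exact ⟨d, t, h1, h2, h3, h4⟩

end Setup

end Cfsg.Agent.ShultGross
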