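import Cfsg.Agent.Lib.ShultGross.Numeric
import Cfsg.Agent.Lib.ShultGross.Degree
import Cfsg.Agent.Lib.Fpf.Action

/-!
A cyclic group of odd prime-power order acting on a nonabelian group whose centre is the fixed
subgroup of its minimal nontrivial subgroup, and on a faithful module without fixed vectors.
-/

set_option autoImplicit false
set_option linter.unusedSectionVars false
set_option linter.style.haveILetI false

namespace Cfsg.Agent.ShultGross

open Module Finset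
open scoped commutatorElement
open Cfsg.Agent.Fpf (Inv Free fix)

universe u v w x

section Cyclic

variable {A : Type v} [Group A] {s : A} {p n : ℕ}

theorem exists_pow_level (hp : p.Prime) {i : ℕ} (hi0 : i ≠ 0) (hi : i < p ^ n) :
    ∃ v, v < n ∧ p ^ v ∣ i ∧ ∀ (t : A), t ^ (p ^ n) = 1 → t ^ (p ^ v) ∈ Subgroup.zpowers (t ^ i) := by
  obtain ⟨v, hvn, hv⟩ := (Nat.dvd_prime_pow hp).mp (Nat.gcd_dvd_right i (p ^ n))
  have hdvd : p ^ v ∣ i := hv ▸ Nat.gcd_dvd_left i (p ^ n)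
  refine ⟨v, ?_, hdvd, fun t ht => ⟨Nat.gcdA i (p ^ n), ?_⟩⟩
  · rcases lt_or_eq_of_le hvn with h | h
    · exact h
    · exact absurd (Nat.le_of_dvd (Nat.pos_of_ne_zero hi0) (h ▸ hdvd)) (not_le.mpr hi)
  · show (t ^ i) ^ Nat.gcdA i (p ^ n) = t ^ (p ^ v)
    rw [← hv, ← zpow_natCast t (i.gcd (p ^ n)), Nat.gcd_eq_gcd_ab, zpow_add, zpow_mul, zpow_mul,
      zpow_natCast, zpow_natCast, ht, one_zpow, mul_one]

theorem tau_mem (hp : p.Prime) (hsn : s ^ (p ^ n) = 1) {i : ℕ} (hi0 : i ≠ 0) (hi : i < p ^ n) :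
    s ^ (p ^ (n - 1)) ∈ Subgroup.zpowers (s ^ i) := by
  obtain ⟨v, hv, -, hmem⟩ := exists_pow_level (A := A) hp hi0 hi
  rw [show p ^ (n - 1) = p ^ v * p ^ (n - 1 - v) by rw [← pow_add]; congr 1; omega, pow_mul]
  exact pow_mem (hmem s hsn) _

theorem exists_level (hp : p.Prime) (hn : 1 ≤ n) (hsn : s ^ (p ^ n) = 1) (B : Subgroup A)
    (hB : s ^ (p ^ (n - 1)) ∈ B) :
    ∃ k, k ≤ n - 1 ∧ s ^ (p ^ k) ∈ B ∧ ∀ i < p ^ n, s ^ i ∈ B → p ^ k ∣ i := by
  classical
  have hex : ∃ k, s ^ (p ^ k) ∈ B := ⟨n - 1, hB⟩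
  refine ⟨Nat.find hex, Nat.find_min' hex hB, Nat.find_spec hex, fun i hi hiB => ?_⟩
  rcases eq_or_ne i 0 with rfl | hi0
  · exact dvd_zero _
  obtain ⟨v, -, hdvd, hmem⟩ := exists_pow_level (A := A) hp hi0 hi
  refine (pow_dvd_pow p (Nat.find_min' hex ?_)).trans hdvd
  exact (Subgroup.zpowers_le.mpr hiB) (hmem s hsn)

theorem exists_pow_lt (hs : ∀ a : A, a ∈ Subgroup.zpowers s) (hp : p.Prime)
    (hsn : s ^ (p ^ n) = 1) (a : A) : ∃ i, i < p ^ n ∧ a = s ^ i := by
  obtain ⟨z, rfl⟩ := Subgroup.mem_zpowers_iff.mp (hs a)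
  have h0 : (0 : ℤ) < (p ^ n : ℕ) := by exact_mod_cast pow_pos hp.pos n
  have h1 := Int.emod_nonneg z h0.ne'
  have h2 := Int.emod_lt_of_pos z h0
  refine ⟨(z % ((p ^ n : ℕ) : ℤ)).toNat, by omega, ?_⟩
  rw [← zpow_natCast s, Int.toNat_of_nonneg h1]
  exact zpow_eq_zpow_emod' z hsn

end Cyclic

section Scalar

variable {K : Type u} [Field K] [IsAlgClosed K] {Q : Type v} [Group Q]
  {V : Type w} [AddCommGroup V] [Module K V] [FiniteDimensional K V]

/-- Schur on a minimal invariant subspace. -/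
theorem scalar_on_minimal (ρ : Q →* Module.End K V) (W1 : Submodule K V) (hne : W1 ≠ ⊥)
    (hmin : ∀ W' : Submodule K V, W' ≤ W1 → W' ≠ ⊥ → (∀ u, ∀ v ∈ W', ρ u v ∈ W') → W' = W1)
    (hinv : ∀ u, ∀ v ∈ W1, ρ u v ∈ W1) (T : Module.End K V) (hT : ∀ v ∈ W1, T v ∈ W1)
    (hcomm : ∀ u, ∀ v ∈ W1, T (ρ u v) = ρ u (T v)) : ∃ c : K, ∀ v ∈ W1, T v = c • v := by
  haveI : Nontrivial W1 := Submodule.nontrivial_iff_ne_bot.mpr hne
  obtain ⟨c, hc⟩ := Module.End.exists_eigenvalue (T.restrict hT)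
  refine ⟨c, fun v hv => ?_⟩
  obtain ⟨w, hw⟩ := hc.exists_hasEigenvector
  have hmem : ∀ x, x ∈ W1 ⊓ T.eigenspace c ↔ x ∈ W1 ∧ T x = c • x := fun x => by
    rw [Submodule.mem_inf, Module.End.mem_eigenspace_iff]
  have h1 : W1 ⊓ T.eigenspace c = W1 := by
    refine hmin _ inf_le_left ?_ ?_
    · intro e
      have hwm : (w : V) ∈ W1 ⊓ T.eigenspace c :=
        (hmem _).mpr ⟨w.2, congrArg Subtype.val hw.apply_eq_smul⟩
      rw [e, Submodule.mem_bot] at hwm
      exact hw.2 (Subtype.ext hwm)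
    · intro u x hx
      obtain ⟨hx1, hx2⟩ := (hmem x).mp hx
      exact (hmem _).mpr ⟨hinv u x hx1, by rw [hcomm u x hx1, hx2, map_smul]⟩
  exact ((hmem v).mp (h1.symm ▸ hv)).2

end Scalar

section Select

variable {K : Type u} [Field K] {Q : Type v} [Group Q] {A : Type x} [Group A]
  {V : Type w} [AddCommGroup V] [Module K V]

/-- A vanishing sum of translates of an eigenvector only involves the stabiliser. -/
theorem select (α : A →* MulAut Q) (ρ : Q →* Module.End K V) (SK : A →* Module.End K V)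
    (hc : ∀ a y, SK a * ρ y = ρ (α a y) * SK a) (R : Subgroup Q) [Fintype R] (f : Q → K)
    (hfmul : ∀ x ∈ R, ∀ y ∈ R, f (x * y) = f x * f y) (hf1 : f 1 = 1)
    (hR0 : (Nat.card R : K) ≠ 0) {ι : Type*} (t : Finset ι) (g : ι → A)
    (hR : ∀ i ∈ t, ∀ x ∈ R, α (g i)⁻¹ x ∈ R) {v : V} (hv : ∀ x ∈ R, ρ x v = f x • v)
    (h0 : ∑ i ∈ t, SK (g i) v = 0) (P : ι → Prop) [DecidablePred P]
    (hP : ∀ i ∈ t, P i ↔ ∀ x ∈ R, f (α (g i)⁻¹ x) = f x) :
    ∑ i ∈ t.filter P, SK (g i) v = 0 := by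
  classical
  have hinv : ∀ x ∈ R, f x⁻¹ * f x = 1 := fun x hx => by
    rw [← hfmul _ (R.inv_mem hx) _ hx, inv_mul_cancel, hf1]
  let e : Module.End K V := ∑ x : R, f (x : Q)⁻¹ • ρ x
  have he : ∀ i ∈ t, e (SK (g i) v) = if P i then (Nat.card R : K) • SK (g i) v else 0 := by
    intro i hi
    have h1 : ∀ x ∈ R, ρ x (SK (g i) v) = f (α (g i)⁻¹ x) • SK (g i) v := by
      intro x hx
      have h2 := LinearMap.congr_fun (hc (g i) (α (g i)⁻¹ x)) v
      rw [← MulAut.mul_apply, ← map_mul, mul_inv_cancel, map_one, MulAut.one_apply,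
        Module.End.mul_apply, Module.End.mul_apply, hv _ (hR i hi x hx), map_smul] at h2
      exact h2.symm
    simp only [e, LinearMap.sum_apply, LinearMap.smul_apply]
    rw [Finset.sum_congr rfl fun (x : R) _ => by rw [h1 x x.2, smul_smul], ← Finset.sum_smul]
    let F : R →* K :=
      { toFun := fun x => f (x : Q)⁻¹ * f (α (g i)⁻¹ x)
        map_one' := by
          show f ((1 : Q)⁻¹) * f (α (g i)⁻¹ 1) = 1
          rw [inv_one, map_one, hf1, mul_one]
        map_mul' := fun x y => by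
          show f ((x : Q) * y)⁻¹ * f (α (g i)⁻¹ ((x : Q) * y)) = _
          rw [mul_inv_rev, map_mul, hfmul _ (R.inv_mem y.2) _ (R.inv_mem x.2),
            hfmul _ (hR i hi _ x.2) _ (hR i hi _ y.2)]
          ring }
    split_ifs with hPi
    · congr 1
      rw [Finset.sum_congr rfl fun (x : R) _ => by rw [(hP i hi).mp hPi x x.2, hinv x x.2],
        Finset.sum_const, Finset.card_univ, nsmul_one, Nat.card_eq_fintype_card]
    · have hF : F ≠ 1 := fun hF1 => hPi ((hP i hi).mpr fun x hx => by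
        have h3 : f x⁻¹ * f (α (g i)⁻¹ x) = 1 := DFunLike.congr_fun hF1 ⟨x, hx⟩
        have h4 := hinv x hx
        exact mul_left_cancel₀ (left_ne_zero_of_mul_eq_one h4) (h3.trans h4.symm))
      have h5 : ∑ x : R, f (x : Q)⁻¹ * f (α (g i)⁻¹ x) = 0 := sum_hom_units_eq_zero F hF
      rw [h5, zero_smul]
  have h6 := congrArg e h0
  rw [map_sum, map_zero, Finset.sum_congr rfl he, ← Finset.sum_filter, ← Finset.smul_sum,
    smul_eq_zero] at h6
  exact h6.resolve_left hR0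

end Select

variable {K : Type u} [Field K] [IsAlgClosed K] {Q : Type v} [Group Q] [Finite Q]
  {A : Type v} [Group A] {V : Type w} [AddCommGroup V] [Module K V] [FiniteDimensional K V]

/-- There is no such configuration. -/
theorem absurd_of_nonabelian {p n : ℕ} (hp : p.Prime) (hp2 : p ≠ 2) (hn : 1 ≤ n) {s : A}
    (hs : ∀ a : A, a ∈ Subgroup.zpowers s) (hsn : s ^ (p ^ n) = 1) {q : ℕ} [hq : Fact q.Prime]
    (hQ : IsPGroup q Q) (α : A →* MulAut Q) (hfree : ∀ y, α s y = y → y = 1)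
    (hF0 : fix α (s ^ (p ^ (n - 1))) = Subgroup.center Q) (hnc : Subgroup.center Q ≠ ⊤)
    (hprop : ∀ R : Subgroup Q, Inv α R → R ≠ ⊤ → R ≤ Subgroup.center Q)
    (ρ : Q →* Module.End K V) (hinj : Function.Injective ρ) (SK : A →* Module.End K V)
    (hc : ∀ a y, SK a * ρ y = ρ (α a y) * SK a)
    (hsum : ∑ i ∈ range (p ^ n), SK (s ^ i) = 0) (hqK : (q : K) ≠ 0) (hpK : (p : K) ≠ 0) :
    False := by
  classical
  haveI := Fact.mk hp
  haveI := Fintype.ofFinite Q
  set τ := s ^ (p ^ (n - 1)) with hτ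
  set Z := Subgroup.center Q with hZdef
  have hZi : Inv α Z := Fpf.inv_char α Z
  have hnQ : Group.IsNilpotent Q := hQ.isNilpotent
  haveI : Nontrivial Q := by
    by_contra h
    rw [not_nontrivial_iff_subsingleton] at h
    exact hnc (Subsingleton.elim _ _)
  have hA : IsPGroup p A := fun a => ⟨n, by
    obtain ⟨i, -, rfl⟩ := exists_pow_lt hs hp hsn a
    rw [← pow_mul, mul_comm, pow_mul, hsn, one_pow]⟩
  have hFree : Free α := fun y hy => hfree y (hy s)
  have hpQ : ¬ p ∣ Nat.card Q := hFree.not_dvd_card hA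
  -- commutators are central
  have hcomZ : ∀ x w : Q, ⁅x, w⁆ ∈ Z := fun x w =>
    hprop _ (Fpf.inv_char α (_root_.commutator Q))
      (Group.IsSolvable.commutator_lt_top_of_nontrivial Q).ne
      (by rw [_root_.commutator_def]; exact Subgroup.commutator_mem_commutator trivial trivial)
  have hcz : ∀ z ∈ Z, ∀ g : Q, g * z = z * g := fun z hz g => Subgroup.mem_center_iff.mp hz g
  have hcom_l : ∀ x y w : Q, ⁅x * y, w⁆ = ⁅y, w⁆ * ⁅x, w⁆ := fun x y w => by
    rw [show ⁅x * y, w⁆ = x * ⁅y, w⁆ * x⁻¹ * ⁅x, w⁆ by simp only [commutatorElement_def]; group,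
      hcz _ (hcomZ y w) x, mul_inv_cancel_right]
  have hcom_r : ∀ x y w : Q, ⁅x, y * w⁆ = ⁅x, y⁆ * ⁅x, w⁆ := fun x y w => by
    rw [show ⁅x, y * w⁆ = ⁅x, y⁆ * (y * ⁅x, w⁆ * y⁻¹) by simp only [commutatorElement_def]; group,
      hcz _ (hcomZ x w) y, mul_inv_cancel_right]
  have hτfix : ∀ x ∈ Z, α τ x = x := fun x hx => by
    have : x ∈ fix α τ := hF0.symm ▸ hx
    exact this
  have hτZ : ∀ y, y⁻¹ * α τ y ∈ Z → y ∈ Z := by
    intro y hy
    have hfix := hτfix _ hy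
    set c := y⁻¹ * α τ y with hcdef
    have hτy : α τ y = y * c := by rw [hcdef, mul_inv_cancel_left]
    have hpow : ∀ j : ℕ, α (τ ^ j) y = y * c ^ j := by
      intro j
      induction j with
      | zero => simp
      | succ j ih =>
        rw [pow_succ', map_mul, MulAut.mul_apply, ih, map_mul, hτy, map_pow, hfix, mul_assoc,
          ← pow_succ']
    have h1 := hpow p
    rw [hτ, ← pow_mul, ← pow_succ, Nat.sub_add_cancel hn, hsn, map_one, MulAut.one_apply,
      left_eq_mul] at h1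
    have hc1 : c = 1 := by
      rw [← orderOf_eq_one_iff]
      exact Nat.eq_one_of_dvd_coprimes (hp.coprime_iff_not_dvd.mpr hpQ)
        (orderOf_dvd_of_pow_eq_one h1) (_root_.orderOf_dvd_natCard c)
    rw [← hF0, Fpf.mem_fix, hτy, hc1, mul_one]
  have hfpfZ : ∀ i, i ≠ 0 → i < p ^ n → ∀ y, y⁻¹ * α (s ^ i) y ∈ Z → y ∈ Z := by
    intro i hi0 hi y hy
    refine hτZ y (QuotientGroup.eq.mp ?_)
    have h1 : Fpf.quot Z hZi (s ^ i) (y : Q ⧸ Z) = y := by
      rw [Fpf.quot_mk]; exact (QuotientGroup.eq.mpr hy).symm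
    exact (Fpf.fix_zpow _ h1 (tau_mem hp hsn hi0 hi)).symm
  -- a nontrivial commutator, and a subspace where it acts nontrivially
  obtain ⟨u0, v0, huv⟩ : ∃ u0 v0 : Q, ⁅u0, v0⁆ ≠ 1 := by
    by_contra hcon
    push Not at hcon
    exact hnc (eq_top_iff.mpr fun y _ => Subgroup.mem_center_iff.mpr fun g =>
      commutatorElement_eq_one_iff_mul_comm.mp (hcon g y))
  set z0 := ⁅u0, v0⁆ with hz0
  have hcardQ : (Nat.card Q : K) ≠ 0 := by
    obtain ⟨e, he⟩ := IsPGroup.iff_card.mp hQ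
    rw [he, Nat.cast_pow]
    exact pow_ne_zero _ hqK
  have hsubK : ∀ R : Subgroup Q, (Nat.card R : K) ≠ 0 := fun R h0 => hcardQ (by
    rw [← R.card_mul_index, Nat.cast_mul, h0, zero_mul])
  set U := LinearMap.range (ρ z0 - 1)
  have hU0 : U ≠ ⊥ := by
    intro e
    rw [LinearMap.range_eq_bot, sub_eq_zero] at e
    exact huv (hinj (by rw [e, map_one]))
  have hUinv : ∀ u, ∀ v ∈ U, ρ u v ∈ U := by
    rintro u _ ⟨x, rfl⟩
    refine ⟨ρ u x, ?_⟩
    simp only [LinearMap.sub_apply, Module.End.one_apply, map_sub]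
    rw [← Module.End.mul_apply, ← Module.End.mul_apply, ← map_mul, ← map_mul,
      hcz _ (hcomZ u0 v0) u]
  obtain ⟨W1, ⟨hW1U, hW10, hW1inv⟩, hW1min'⟩ := WellFounded.has_min
    (wellFounded_lt (α := Submodule K V))
    {W | W ≤ U ∧ W ≠ ⊥ ∧ ∀ u, ∀ v ∈ W, ρ u v ∈ W} ⟨U, le_rfl, hU0, hUinv⟩
  have hW1min : ∀ W' : Submodule K V, W' ≤ W1 → W' ≠ ⊥ → (∀ u, ∀ v ∈ W', ρ u v ∈ W') → W' = W1 := by
    intro W' h1 h2 h3
    by_contra hne
    exact hW1min' W' ⟨h1.trans hW1U, h2, h3⟩ (lt_of_le_of_ne h1 hne)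
  obtain ⟨w1, hw1, hw10⟩ := Submodule.exists_mem_ne_zero_of_ne_bot hW10
  have hscal : ∀ x : Q, (∀ u, ∀ v ∈ W1, ρ x (ρ u v) = ρ u (ρ x v)) →
      ∃ c : K, ∀ v ∈ W1, ρ x v = c • v := fun x hx =>
    scalar_on_minimal ρ W1 hW10 hW1min hW1inv (ρ x) (hW1inv x) hx
  have hcancel : ∀ {a b : K}, a • w1 = b • w1 → a = b := fun h => smul_left_injective K hw10 h
  -- the central character
  have hex : ∀ z : Q, ∃ c : K, z ∈ Z → ∀ v ∈ W1, ρ z v = c • v := by
    intro z
    by_cases hz : z ∈ Z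
    · obtain ⟨c, hc'⟩ := hscal z fun u v _ => by
        rw [← Module.End.mul_apply, ← Module.End.mul_apply, ← map_mul, ← map_mul, hcz z hz u]
      exact ⟨c, fun _ => hc'⟩
    · exact ⟨0, fun h => absurd h hz⟩
  choose ζ hζ using hex
  have hζ1 : ζ 1 = 1 := hcancel (by
    rw [← hζ 1 (one_mem _) w1 hw1, map_one, Module.End.one_apply, one_smul])
  have hζmul : ∀ x ∈ Z, ∀ y ∈ Z, ζ (x * y) = ζ x * ζ y := fun x hx y hy => hcancel (by
    rw [← hζ _ (mul_mem hx hy) w1 hw1, map_mul, Module.End.mul_apply, hζ y hy w1 hw1, map_smul,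
      hζ x hx w1 hw1, smul_smul, mul_comm])
  have hζpow : ∀ x ∈ Z, ∀ j : ℕ, ζ (x ^ j) = ζ x ^ j := by
    intro x hx j
    induction j with
    | zero => rw [pow_zero, pow_zero, hζ1]
    | succ j ih => rw [pow_succ, hζmul _ (pow_mem hx j) _ hx, ih, pow_succ]
  set c0 := ζ z0 with hc0
  have hc0ne : c0 ≠ 1 := by
    intro e
    obtain ⟨x, hx⟩ := hW1U hw1
    have hx' : ρ z0 x = x + w1 := by
      rw [← hx, LinearMap.sub_apply, Module.End.one_apply]; abel
    have hfx : ρ z0 w1 = w1 := by rw [hζ z0 (hcomZ _ _) w1 hw1, ← hc0, e, one_smul]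
    have hj : ∀ j : ℕ, (ρ z0 ^ j) x = x + j • w1 := by
      intro j
      induction j with
      | zero => simp
      | succ j ih =>
        rw [pow_succ', Module.End.mul_apply, ih, map_add, map_nsmul, hx', hfx, succ_nsmul']
        abel
    have h1 := hj (Nat.card Q)
    rw [← map_pow, pow_card_eq_one', map_one, Module.End.one_apply, left_eq_add,
      ← Nat.cast_smul_eq_nsmul K, smul_eq_zero] at h1
    exact hw10 (h1.resolve_left hcardQ)
  -- its stabiliser
  let B : Subgroup A :=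
    { carrier := {a | ∀ z ∈ Z, ζ (α a z) = ζ z}
      one_mem' := fun z _ => by rw [map_one, MulAut.one_apply]
      mul_mem' := fun {a b} ha hb z hz => by
        rw [map_mul, MulAut.mul_apply, ha _ (hZi b z hz), hb z hz]
      inv_mem' := fun {a} ha z hz => by
        have h1 := ha _ (hZi a⁻¹ z hz)
        rw [← MulAut.mul_apply, ← map_mul, mul_inv_cancel, map_one, MulAut.one_apply] at h1
        exact h1.symm }
  have hτB : τ ∈ B := fun z hz => by rw [hτfix z hz]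
  obtain ⟨k, hkn, hkB, hkdvd⟩ := exists_level hp hn hsn B hτB
  set m := n - k with hm
  have hm1 : 1 ≤ m := by omega
  have hkm : p ^ n = p ^ k * p ^ m := by rw [← pow_add]; congr 1; omega
  set N := p ^ m with hNdef
  have hpk0 : 0 < p ^ k := pow_pos hp.pos k
  set a1 := s ^ (p ^ k) with ha1
  have ha1N : a1 ^ N = 1 := by rw [ha1, ← pow_mul, ← hkm, hsn]
  have hτa1 : τ ∈ Subgroup.zpowers a1 := by
    rw [hτ, show p ^ (n - 1) = p ^ k * p ^ (n - 1 - k) by rw [← pow_add]; congr 1; omega, pow_mul]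
    exact Subgroup.npow_mem_zpowers _ _
  -- eigenvectors of the centre
  have hsum1 : ∀ v : V, (∀ z ∈ Z, ρ z v = ζ z • v) → ∑ j ∈ range N, SK (a1 ^ j) v = 0 := by
    intro v hv
    have h0 : ∑ i ∈ range (p ^ n), SK (s ^ i) v = 0 := by
      rw [← LinearMap.sum_apply, hsum, LinearMap.zero_apply]
    have h1 := select α ρ SK hc Z ζ hζmul hζ1 (hsubK Z) (range (p ^ n)) (fun i => s ^ i)
      (fun i _ x hx => hZi _ x hx) hv h0 (fun i => p ^ k ∣ i) (fun i hi => by
        constructor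
        · rintro ⟨j, rfl⟩ x hx
          exact B.inv_mem (by rw [pow_mul]; exact pow_mem hkB j) x hx
        · intro h
          exact hkdvd i (Finset.mem_range.mp hi) (inv_mem_iff.mp (show (s ^ i)⁻¹ ∈ B from h)))
    have himg : (range (p ^ n)).filter (fun i => p ^ k ∣ i) =
        (range N).image (fun j => p ^ k * j) := by
      ext i
      simp only [Finset.mem_filter, Finset.mem_range, Finset.mem_image]
      constructor
      · rintro ⟨hi, j, rfl⟩
        exact ⟨j, Nat.lt_of_mul_lt_mul_left (hkm ▸ hi), rfl⟩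
      · rintro ⟨j, hj, rfl⟩
        exact ⟨hkm ▸ Nat.mul_lt_mul_of_pos_left hj hpk0, dvd_mul_right _ _⟩
    rw [himg, Finset.sum_image fun x _ y _ e => Nat.eq_of_mul_eq_mul_left hpk0 e] at h1
    rw [← h1]
    exact Finset.sum_congr rfl fun j _ => by rw [ha1, ← pow_mul]
  -- the radical
  let Z1 : Subgroup Q :=
    { carrier := {x | ∀ w, ζ ⁅x, w⁆ = 1}
      one_mem' := fun w => by rw [commutatorElement_one_left, hζ1]
      mul_mem' := fun {x y} hx hy w => by
        rw [hcom_l, hζmul _ (hcomZ _ _) _ (hcomZ _ _), hx w, hy w, one_mul]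
      inv_mem' := fun {x} hx w => by
        have h1 := hcom_l x⁻¹ x w
        rw [inv_mul_cancel, commutatorElement_one_left] at h1
        have h2 := congrArg ζ h1
        rw [hζ1, hζmul _ (hcomZ _ _) _ (hcomZ _ _), hx w, one_mul] at h2
        exact h2.symm }
  have hZ1 : ∀ {x}, x ∈ Z1 ↔ ∀ w, ζ ⁅x, w⁆ = 1 := Iff.rfl
  have hZle : Z ≤ Z1 := fun z hz => hZ1.mpr fun w => by
    rw [commutatorElement_eq_one_iff_mul_comm.mpr (hcz z hz w).symm, hζ1]
  haveI hZ1n : Z1.Normal := ⟨fun x hx g => by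
    rw [show g * x * g⁻¹ = ⁅g, x⁆ * x by simp only [commutatorElement_def]; group]
    exact Z1.mul_mem (hZle (hcomZ _ _)) hx⟩
  have hswap : ∀ u w : Q, ζ ⁅u, w⁆ * ζ ⁅w, u⁆ = 1 := fun u w => by
    rw [← hζmul _ (hcomZ _ _) _ (hcomZ _ _), ← commutatorElement_inv w u, inv_mul_cancel, hζ1]
  have hZ1r : ∀ x ∈ Z1, ∀ w, ζ ⁅w, x⁆ = 1 := fun x hx w => by
    have h1 := hswap w x
    rwa [hZ1.mp hx w, mul_one] at h1
  have hZ1B : ∀ b ∈ B, ∀ x ∈ Z1, α b x ∈ Z1 := fun b hb x hx => hZ1.mpr fun w => by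
    have h1 : w = α b (α b⁻¹ w) := by
      rw [← MulAut.mul_apply, ← map_mul, mul_inv_cancel, map_one, MulAut.one_apply]
    rw [h1, ← map_commutatorElement, hb _ (hcomZ _ _)]
    exact hZ1.mp hx _
  have hu0 : u0 ∉ Z1 := fun h => hc0ne (hZ1.mp h v0)
  have hZ1top : Z1 ≠ ⊤ := fun h => hu0 (h ▸ Subgroup.mem_top _)
  have hsurj : ∀ i, i ≠ 0 → i < p ^ n → s ^ i ∈ B → ∀ z ∈ Z1,
      ∃ w ∈ Z1, (w⁻¹ * α (s ^ i) w)⁻¹ * z ∈ Z := by
    intro i hi0 hi hiB z hz
    let R : Subgroup (Q ⧸ Z) := Z1.map (QuotientGroup.mk' Z)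
    let f : R → R := fun x => ⟨(x : Q ⧸ Z)⁻¹ * Fpf.quot Z hZi (s ^ i) x, by
      obtain ⟨w, hw, hwx⟩ := x.2
      rw [← hwx]
      exact ⟨w⁻¹ * α (s ^ i) w, mul_mem (inv_mem hw) (hZ1B _ hiB w hw), map_mul _ _ _⟩⟩
    have hfinj : Function.Injective f := by
      rintro ⟨x, hx⟩ ⟨y, hy⟩ e
      have e' := congrArg Subtype.val e
      obtain ⟨x, rfl⟩ := QuotientGroup.mk_surjective x
      obtain ⟨y, rfl⟩ := QuotientGroup.mk_surjective y
      apply Subtype.ext
      show (x : Q ⧸ Z) = y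
      have e2 : Fpf.quot Z hZi (s ^ i) ((x * y⁻¹ : Q) : Q ⧸ Z) = ((x * y⁻¹ : Q) : Q ⧸ Z) := by
        have e'' : (x : Q ⧸ Z)⁻¹ * Fpf.quot Z hZi (s ^ i) x =
            (y : Q ⧸ Z)⁻¹ * Fpf.quot Z hZi (s ^ i) y := e'
        rw [inv_mul_eq_iff_eq_mul] at e''
        rw [QuotientGroup.mk_mul, QuotientGroup.mk_inv, map_mul, map_inv, e'',
          mul_assoc (x : Q ⧸ Z), mul_inv_cancel_right]
      rw [Fpf.quot_mk] at e2
      have h2 := hfpfZ i hi0 hi _ (QuotientGroup.eq.mp e2.symm)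
      rw [← (QuotientGroup.eq_one_iff (N := Z) _), QuotientGroup.mk_mul, QuotientGroup.mk_inv,
        mul_inv_eq_one] at h2
      exact h2
    obtain ⟨⟨w', hw'⟩, hfw⟩ := Finite.injective_iff_surjective.mp hfinj
      ⟨(z : Q ⧸ Z), ⟨z, hz, rfl⟩⟩
    obtain ⟨w, hw, rfl⟩ := hw'
    exact ⟨w, hw, QuotientGroup.eq.mp (congrArg Subtype.val hfw)⟩
  have hcommE : ∀ x ∈ Z1, ∀ u, ∀ v : V, (∀ z ∈ Z, ρ z v = ζ z • v) →
      ρ x (ρ u v) = ρ u (ρ x v) := by
    intro x hx u v hv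
    rw [← Module.End.mul_apply, ← Module.End.mul_apply, ← map_mul, ← map_mul,
      show x * u = u * x * ⁅x⁻¹, u⁻¹⁆ by simp only [commutatorElement_def]; group, map_mul,
      Module.End.mul_apply, hv _ (hcomZ _ _), hZ1.mp (Z1.inv_mem hx), one_smul]
  have hexχ : ∀ x : Q, ∃ c : K, x ∈ Z1 → ∀ v ∈ W1, ρ x v = c • v := by
    intro x
    by_cases hx : x ∈ Z1
    · obtain ⟨c, hc'⟩ := hscal x fun u v hv => hcommE x hx u v fun z hz => hζ z hz v hv
      exact ⟨c, fun _ => hc'⟩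
    · exact ⟨0, fun h => absurd h hx⟩
  choose χ hχ using hexχ
  have hχZ : ∀ z ∈ Z, χ z = ζ z := fun z hz => hcancel (by
    rw [← hχ z (hZle hz) w1 hw1, hζ z hz w1 hw1])
  have hχmul : ∀ x ∈ Z1, ∀ y ∈ Z1, χ (x * y) = χ x * χ y := fun x hx y hy => hcancel (by
    rw [← hχ _ (mul_mem hx hy) w1 hw1, map_mul, Module.End.mul_apply, hχ y hy w1 hw1, map_smul,
      hχ x hx w1 hw1, smul_smul, mul_comm])
  have hχ1 : χ 1 = 1 := by rw [hχZ 1 (one_mem _), hζ1]
  let B1 : Subgroup A :=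
    { carrier := {a | a ∈ B ∧ ∀ x ∈ Z1, χ (α a x) = χ x}
      one_mem' := ⟨B.one_mem, fun z _ => by rw [map_one, MulAut.one_apply]⟩
      mul_mem' := fun {a b} ha hb => ⟨B.mul_mem ha.1 hb.1, fun z hz => by
        rw [map_mul, MulAut.mul_apply, ha.2 _ (hZ1B b hb.1 z hz), hb.2 z hz]⟩
      inv_mem' := fun {a} ha => ⟨B.inv_mem ha.1, fun z hz => by
        have h1 := ha.2 _ (hZ1B a⁻¹ (B.inv_mem ha.1) z hz)
        rw [← MulAut.mul_apply, ← map_mul, mul_inv_cancel, map_one, MulAut.one_apply] at h1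
        exact h1.symm⟩ }
  have hτB1 : τ ∈ B1 := by
    by_contra hτn
    have hv : ∀ z ∈ Z, ρ z w1 = ζ z • w1 := fun z hz => hζ z hz w1 hw1
    have h1 := select α ρ SK hc Z1 χ hχmul hχ1 (hsubK Z1) (range N) (fun j => a1 ^ j)
      (fun j _ x hx => hZ1B _ (B.inv_mem (pow_mem hkB j)) x hx) (fun x hx => hχ x hx w1 hw1)
      (hsum1 w1 hv) (fun j => j = 0) (fun j hj => by
        constructor
        · rintro rfl x _
          rw [pow_zero, inv_one, map_one, MulAut.one_apply]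
        · intro h
          by_contra hj0
          apply hτn
          have hmem : (a1 ^ j)⁻¹ ∈ B1 := ⟨B.inv_mem (pow_mem hkB j), h⟩
          have hlt : p ^ k * j < p ^ n :=
            hkm ▸ Nat.mul_lt_mul_of_pos_left (Finset.mem_range.mp hj) hpk0
          have h2 := tau_mem hp hsn (Nat.mul_ne_zero hpk0.ne' hj0) hlt
          rw [pow_mul, ← ha1] at h2
          exact (Subgroup.zpowers_le.mpr (inv_mem_iff.mp hmem)) h2)
    rw [Finset.filter_eq', if_pos (Finset.mem_range.mpr (pow_pos hp.pos m)),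
      Finset.sum_singleton, pow_zero, map_one, Module.End.one_apply] at h1
    exact hw10 h1
  have hχa1 : ∀ x ∈ Z1, χ (α a1 x) = χ x := by
    intro x hx
    obtain ⟨w, hw, hwx⟩ := hsurj (p ^ (n - 1)) (pow_pos hp.pos _).ne'
      (Nat.pow_lt_pow_right hp.one_lt (by omega)) hτB x hx
    set c := (w⁻¹ * α τ w)⁻¹ * x with hcdef
    have hx' : x = w⁻¹ * α τ w * c := by rw [hcdef, mul_inv_cancel_left]
    have hval : ∀ y ∈ Z1, χ (y⁻¹ * α τ y) = 1 := fun y hy => by
      rw [hχmul _ (inv_mem hy) _ (hZ1B τ hτB y hy), hτB1.2 y hy, ← hχmul _ (inv_mem hy) _ hy,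
        inv_mul_cancel, hχ1]
    have hwm : w⁻¹ * α τ w ∈ Z1 := mul_mem (inv_mem hw) (hZ1B τ hτB w hw)
    have hcomm : α a1 (α τ w) = α τ (α a1 w) := by
      rw [← MulAut.mul_apply, ← MulAut.mul_apply, ← map_mul, ← map_mul, hτ, ha1, ← pow_add,
        ← pow_add, add_comm]
    conv_lhs => rw [hx', map_mul, map_mul, map_inv, hcomm]
    have hw' := hZ1B a1 hkB w hw
    rw [hχmul _ (mul_mem (inv_mem hw') (hZ1B τ hτB _ hw')) _ (hZle (hZi a1 c hwx)), hval _ hw',
      hχZ _ (hZi a1 c hwx), hkB c hwx, hx', hχmul _ hwm _ (hZle hwx), hval w hw, hχZ c hwx]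
  have ha1B1 : a1 ∈ B1 := ⟨hkB, hχa1⟩
  -- the eigenspace of the radical
  let V1 : Submodule K V :=
    { carrier := {v | ∀ x ∈ Z1, ρ x v = χ x • v}
      add_mem' := fun {a b} ha hb x hx => by rw [map_add, ha x hx, hb x hx, smul_add]
      zero_mem' := fun x _ => by rw [map_zero, smul_zero]
      smul_mem' := fun c v hv x hx => by rw [map_smul, hv x hx, smul_comm] }
  have hV1Z : ∀ v ∈ V1, ∀ z ∈ Z, ρ z v = ζ z • v := fun v hv z hz => by
    rw [hv z (hZle hz), hχZ z hz]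
  have hV1Q : ∀ u, ∀ v ∈ V1, ρ u v ∈ V1 := fun u v hv x hx => by
    rw [hcommE x hx u v (hV1Z v hv), hv x hx, map_smul]
  have hV1S : ∀ v ∈ V1, SK a1 v ∈ V1 := by
    intro v hv x hx
    have h2 := LinearMap.congr_fun (hc a1 (α a1⁻¹ x)) v
    rw [← MulAut.mul_apply, ← map_mul, mul_inv_cancel, map_one, MulAut.one_apply,
      Module.End.mul_apply, Module.End.mul_apply, hv _ (hZ1B _ (B.inv_mem hkB) x hx), map_smul] at h2
    rw [← h2, (B1.inv_mem ha1B1).2 x hx]
  haveI : Nontrivial V1 := Submodule.nontrivial_iff_ne_bot.mpr fun e => hw10 <|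
    (Submodule.eq_bot_iff _).mp e w1 fun x hx => hχ x hx w1 hw1
  let ρ1 : Q →* Module.End K V1 :=
    { toFun := fun u => (ρ u).restrict (hV1Q u)
      map_one' := LinearMap.ext fun v => Subtype.ext (by
        show ρ 1 v.1 = v.1
        rw [map_one, Module.End.one_apply])
      map_mul' := fun u u' => LinearMap.ext fun v => Subtype.ext (by
        show ρ (u * u') v.1 = ρ u (ρ u' v.1)
        rw [map_mul, Module.End.mul_apply]) }
  let S1 : Module.End K V1 := (SK a1).restrict hV1S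
  have hS1 : ∀ (j : ℕ) (v : V1), ((S1 ^ j) v : V) = SK (a1 ^ j) (v : V) := by
    intro j
    induction j with
    | zero =>
      intro v
      rw [pow_zero, pow_zero, map_one]
      rfl
    | succ j ih =>
      intro v
      rw [pow_succ', pow_succ', Module.End.mul_apply, map_mul, Module.End.mul_apply, ← ih]
      rfl
  have hinvZ1 : ∀ z, α a1 z ∈ Z1 ↔ z ∈ Z1 := fun z => by
    refine ⟨fun h => ?_, hZ1B a1 hkB z⟩
    have h1 := hZ1B _ (B.inv_mem hkB) _ h
    rwa [← MulAut.mul_apply, ← map_mul, inv_mul_cancel, map_one, MulAut.one_apply] at h1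
  have hset : Setup ρ1 Z1 χ (α a1) S1 N :=
    { comm_mem := fun w u => hZle (hcomZ w u)
      scalar := fun z hz => LinearMap.ext fun v => Subtype.ext (v.2 z hz)
      chi_inv := hχa1
      inv := hinvZ1
      nondeg := fun u hu => by
        by_contra hcon
        push Not at hcon
        refine hu (hZ1.mpr fun w => ?_)
        have h1 := hswap u w
        rwa [show ζ ⁅w, u⁆ = 1 by rw [← hχZ _ (hcomZ w u)]; exact hcon w, mul_one] at h1
      fpf := fun j hj0 hj u hu => by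
        rw [← map_pow, ha1, ← pow_mul] at hu
        have hlt : p ^ k * j < p ^ n := hkm ▸ Nat.mul_lt_mul_of_pos_left hj hpk0
        have hne : p ^ k * j ≠ 0 := Nat.mul_ne_zero hpk0.ne' (by omega)
        have hiB : s ^ (p ^ k * j) ∈ B := by rw [pow_mul]; exact pow_mem hkB j
        obtain ⟨w, hw, hwx⟩ := hsurj _ hne hlt hiB _ hu
        have h1 : u * w⁻¹ ∈ Z := by
          refine hfpfZ _ hne hlt _ ?_
          rw [← QuotientGroup.eq_one_iff] at hwx ⊢
          rw [map_mul, map_inv]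
          simp only [QuotientGroup.mk_mul, QuotientGroup.mk_inv] at hwx ⊢
          have hab : ∀ x y : Q ⧸ Z, x * y = y * x := fun x y => by
            obtain ⟨x, rfl⟩ := QuotientGroup.mk_surjective x
            obtain ⟨y, rfl⟩ := QuotientGroup.mk_surjective y
            rw [← commutatorElement_eq_one_iff_mul_comm, ← QuotientGroup.mk'_apply,
              ← QuotientGroup.mk'_apply, ← map_commutatorElement, QuotientGroup.mk'_apply,
              QuotientGroup.eq_one_iff]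
            exact hcomZ x y
          rw [← hwx]
          have hlc : ∀ x y z : Q ⧸ Z, x * (y * z) = y * (x * z) := fun x y z => by
            rw [← mul_assoc, hab x y, mul_assoc]
          simp only [mul_inv_rev, inv_inv, mul_assoc, hab, hlc]
        have h2 := Z1.mul_mem (hZle h1) hw
        rwa [inv_mul_cancel_right] at h2
      apow := by rw [← map_pow, ha1N, map_one]
      compat := fun u => LinearMap.ext fun v => Subtype.ext (LinearMap.congr_fun (hc a1 u) v.1)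
      spow := LinearMap.ext fun v => Subtype.ext (by rw [hS1, ha1N, map_one]; rfl)
      ssum := LinearMap.ext fun v => Subtype.ext (by
        rw [LinearMap.sum_apply, AddSubmonoidClass.coe_finsetSum]
        simp only [hS1]
        rw [hsum1 _ (hV1Z v.1 v.2)]
        rfl)
      cardQ := hcardQ
      cardN := by rw [hNdef, Nat.cast_pow]; exact pow_ne_zero _ hpK
      one_lt := Nat.one_lt_pow (by omega) hp.one_lt }
  obtain ⟨d, t, hd2, hdN, hdt, hidx⟩ := hset.degree hZ1top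
  obtain ⟨e, he⟩ := hQ.index Z1
  obtain ⟨rfl, b, hb1, hdb, hbN⟩ :=
    degree_eq hp hp2 hq.out hd2 hdN hdt (hidx.symm.trans he)
  -- the translates of the section separate the group modulo the centre
  let Ψ' : Q →* (Fin (p ^ k) → Q ⧸ Z1) :=
    MonoidHom.pi fun i => (QuotientGroup.mk' Z1).comp (α (s ^ (i : ℕ))).toMonoidHom
  have hall : ∀ x, (∀ i : Fin (p ^ k), α (s ^ (i : ℕ)) x ∈ Z1) → ∀ a : A, α a x ∈ Z1 := by
    intro x hx a
    obtain ⟨i, -, rfl⟩ := exists_pow_lt hs hp hsn a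
    rw [← Nat.div_add_mod i (p ^ k), pow_add, pow_mul, ← ha1, map_mul, MulAut.mul_apply]
    exact hZ1B _ (pow_mem hkB _) _ (hx ⟨i % p ^ k, Nat.mod_lt _ hpk0⟩)
  have hker : Ψ'.ker = Z := by
    have hmem : ∀ x, x ∈ Ψ'.ker ↔ ∀ i : Fin (p ^ k), α (s ^ (i : ℕ)) x ∈ Z1 := fun x => by
      rw [MonoidHom.mem_ker, funext_iff]
      exact forall_congr' fun i => QuotientGroup.eq_one_iff _
    refine le_antisymm (hprop _ ?_ ?_) fun z hz => (hmem z).mpr fun i => hZle (hZi _ z hz)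
    · intro a x hx
      refine (hmem _).mpr fun i => ?_
      rw [← MulAut.mul_apply, ← map_mul]
      exact hall x ((hmem x).mp hx) _
    · intro htop
      have h1 := (hmem u0).mp (htop ▸ Subgroup.mem_top _) ⟨0, hpk0⟩
      rw [pow_zero, map_one, MulAut.one_apply] at h1
      exact hu0 h1
  let Ψ : Q ⧸ Z →* (Fin (p ^ k) → Q ⧸ Z1) := QuotientGroup.lift Z Ψ' hker.ge
  have hΨ : Function.Injective Ψ := by
    rw [← MonoidHom.ker_eq_bot_iff, eq_bot_iff]
    intro x hx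
    obtain ⟨x, rfl⟩ := QuotientGroup.mk_surjective x
    exact (QuotientGroup.eq_one_iff x).mpr (hker ▸ hx)
  obtain ⟨D, hD⟩ := IsPGroup.iff_card.mp (hQ.to_quotient Z)
  have hD0 : D ≠ 0 := by
    rintro rfl
    refine hnc ?_
    rw [← Subgroup.index_eq_one, Subgroup.index, hD, pow_zero]
  have hcX : p ^ n ∣ Nat.card {x : Q ⧸ Z // x ≠ 1} := by
    let X := {x : Q ⧸ Z // x ≠ 1}
    letI : MulAction A X :=
      { smul := fun a x => ⟨Fpf.quot Z hZi a x.1, (MulEquiv.map_ne_one_iff _).mpr x.2⟩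
        one_smul := fun x => Subtype.ext (by
          show Fpf.quot Z hZi 1 x.1 = x.1
          rw [map_one, MulAut.one_apply])
        mul_smul := fun a b x => Subtype.ext (by
          show Fpf.quot Z hZi (a * b) x.1 = Fpf.quot Z hZi a (Fpf.quot Z hZi b x.1)
          rw [map_mul, MulAut.mul_apply]) }
    have hstab : ∀ x : X, MulAction.stabilizer A x = ⊥ := by
      intro x
      rw [eq_bot_iff]
      intro a ha
      obtain ⟨i, hi, rfl⟩ := exists_pow_lt hs hp hsn a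
      by_contra hne
      have hi0 : i ≠ 0 := fun e => hne (by rw [e, pow_zero]; exact Subgroup.mem_bot.mpr rfl)
      obtain ⟨y, hy⟩ := QuotientGroup.mk_surjective x.1
      have h1 : Fpf.quot Z hZi (s ^ i) x.1 = x.1 := congrArg Subtype.val ha
      rw [← hy, Fpf.quot_mk] at h1
      exact x.2 (hy ▸ (QuotientGroup.eq_one_iff y).mpr (hfpfZ i hi0 hi y (QuotientGroup.eq.mp h1.symm)))
    have hord : orderOf s = p ^ n := by
      obtain ⟨M, hM⟩ : ∃ M, n = M + 1 := ⟨n - 1, by omega⟩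
      rw [hM]
      refine orderOf_eq_prime_pow (fun e => hnc (eq_top_iff.mpr fun y _ => ?_)) (hM ▸ hsn)
      rw [← hF0, Fpf.mem_fix, hτ, show n - 1 = M by omega, e, map_one, MulAut.one_apply]
    have hcA : Nat.card A = p ^ n := by
      rw [← orderOf_eq_card_of_forall_mem_zpowers hs, hord]
    exact ⟨_, (Nat.card_congr (MulAction.selfEquivOrbitsQuotientProd hstab)).trans
      (by rw [Nat.card_prod, hcA, mul_comm])⟩
  rw [Nat.card_eq_fintype_card, Fintype.card_subtype_compl, Fintype.card_subtype_eq,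
    ← Nat.card_eq_fintype_card, hD, show n = m + k by omega] at hcX
  have hDle := order_two_le hp hp2 hm1 hb1 hbN hD0 hcX
  have hcodom : Nat.card (Fin (p ^ k) → Q ⧸ Z1) = 2 ^ (2 * b * p ^ k) := by
    rw [Nat.card_fun, Nat.card_fin, ← Subgroup.index, hidx, hdb, ← pow_add, ← pow_mul, two_mul]
  have hΨs : Function.Surjective Ψ := by
    refine (Nat.bijective_iff_injective_and_card Ψ).mpr ⟨hΨ, ?_⟩ |>.2
    refine le_antisymm (Nat.card_le_card_of_injective _ hΨ) ?_
    rw [hcodom, hD]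
    exact Nat.pow_le_pow_right (by norm_num) hDle
  obtain ⟨u', hu'⟩ := hΨs (Pi.mulSingle ⟨0, hpk0⟩ (u0 : Q ⧸ Z1))
  obtain ⟨u, rfl⟩ := QuotientGroup.mk_surjective u'
  obtain ⟨v', hv'⟩ := hΨs (Pi.mulSingle ⟨0, hpk0⟩ (v0 : Q ⧸ Z1))
  obtain ⟨v, rfl⟩ := QuotientGroup.mk_surjective v'
  set z := ⁅u, v⁆ with hzdef
  have hzval : ∀ i : ℕ, ζ (α (s ^ i) z) = if i % p ^ k = 0 then c0 else 1 := by
    intro i
    have hred : ζ (α (s ^ i) z) = ζ (α (s ^ (i % p ^ k)) z) := by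
      conv_lhs => rw [← Nat.div_add_mod i (p ^ k), pow_add, pow_mul, ← ha1, map_mul,
        MulAut.mul_apply]
      exact (pow_mem hkB _) _ (hZi _ z (hcomZ _ _))
    rw [hred, hzdef, map_commutatorElement]
    split_ifs with h0
    · rw [h0, pow_zero, map_one, MulAut.one_apply, MulAut.one_apply]
      have e1 : ((u : Q) : Q ⧸ Z1) = u0 := by
        have := congrFun hu' ⟨0, hpk0⟩
        rw [Pi.mulSingle_eq_same] at this
        rw [← this]
        show _ = ((α (s ^ 0) u : Q) : Q ⧸ Z1)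
        rw [pow_zero, map_one, MulAut.one_apply]
      have e2 : ((v : Q) : Q ⧸ Z1) = v0 := by
        have := congrFun hv' ⟨0, hpk0⟩
        rw [Pi.mulSingle_eq_same] at this
        rw [← this]
        show _ = ((α (s ^ 0) v : Q) : Q ⧸ Z1)
        rw [pow_zero, map_one, MulAut.one_apply]
      rw [eq_comm, QuotientGroup.eq] at e1 e2
      rw [hc0, hz0, show u = u0 * (u0⁻¹ * u) by rw [mul_inv_cancel_left],
        show v = v0 * (v0⁻¹ * v) by rw [mul_inv_cancel_left], hcom_l, hcom_r u0,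
        hζmul _ (hcomZ _ _) _ (mul_mem (hcomZ _ _) (hcomZ _ _)),
        hζmul _ (hcomZ _ _) _ (hcomZ _ _), hZ1r _ e2 u0, hZ1.mp e1, one_mul, mul_one]
    · refine hZ1.mp ?_ _
      rw [← QuotientGroup.eq_one_iff]
      have := congrFun hu' ⟨i % p ^ k, Nat.mod_lt _ hpk0⟩
      rw [Pi.mulSingle_eq_of_ne (fun e => h0 (congrArg Fin.val e))] at this
      exact this
  letI : CommGroup Z := { (inferInstance : Group Z) with
    mul_comm := fun x y => Subtype.ext (hcz y y.2 x) }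
  let y : Z := ∏ i ∈ range (p ^ n), (⟨α (s ^ i) z, hZi _ z (hcomZ _ _)⟩ : Z)
  have hy1 : y = 1 := by
    refine Subtype.ext (hfree _ ?_)
    let σZ : Z →* Z :=
      { toFun := fun x => ⟨α s x, hZi s x x.2⟩
        map_one' := Subtype.ext (map_one (α s))
        map_mul' := fun x y => Subtype.ext (map_mul (α s) (x : Q) y) }
    have h1 : σZ y = y := by
      rw [map_prod]
      have h2 : ∀ i, σZ ⟨α (s ^ i) z, hZi _ z (hcomZ _ _)⟩ =
          ⟨α (s ^ (i + 1)) z, hZi _ z (hcomZ _ _)⟩ := fun i => Subtype.ext (by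
        show α s (α (s ^ i) z) = α (s ^ (i + 1)) z
        rw [← MulAut.mul_apply, ← map_mul, ← pow_succ'])
      rw [Finset.prod_congr rfl fun i _ => h2 i]
      have h3 := Finset.prod_range_succ (fun i => (⟨α (s ^ i) z, hZi _ z (hcomZ _ _)⟩ : Z)) (p ^ n)
      rw [Finset.prod_range_succ'] at h3
      have h4 : (⟨α (s ^ (p ^ n)) z, hZi _ z (hcomZ _ _)⟩ : Z) = ⟨α (s ^ 0) z, hZi _ z (hcomZ _ _)⟩ :=
        Subtype.ext (by show α (s ^ (p ^ n)) z = α (s ^ 0) z; rw [hsn, pow_zero])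
      rw [h4] at h3
      exact mul_right_cancel h3
    exact congrArg Subtype.val h1
  let ζZ : Z →* K :=
    { toFun := fun x => ζ x
      map_one' := hζ1
      map_mul' := fun x y => hζmul x x.2 y y.2 }
  have hcN : c0 ^ N = 1 := by
    have h1 := congrArg ζZ hy1
    rw [map_one, map_prod] at h1
    have h2 : ∏ i ∈ range (p ^ n), ζ (α (s ^ i) z) = 1 := h1
    rw [Finset.prod_congr rfl fun i _ => hzval i, Finset.prod_ite, Finset.prod_const_one, mul_one,
      Finset.prod_const] at h2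
    have himg : (range (p ^ n)).filter (fun i => i % p ^ k = 0) =
        (range N).image (fun j => p ^ k * j) := by
      ext i
      simp only [Finset.mem_filter, Finset.mem_range, Finset.mem_image]
      constructor
      · rintro ⟨hi, h0⟩
        obtain ⟨j, rfl⟩ := Nat.dvd_of_mod_eq_zero h0
        exact ⟨j, Nat.lt_of_mul_lt_mul_left (hkm ▸ hi), rfl⟩
      · rintro ⟨j, hj, rfl⟩
        exact ⟨hkm ▸ Nat.mul_lt_mul_of_pos_left hj hpk0, Nat.mul_mod_right _ _⟩
    rwa [himg, Finset.card_image_of_injective _ fun x y e => Nat.eq_of_mul_eq_mul_left hpk0 e,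
      Finset.card_range] at h2
  have hcQ : c0 ^ Nat.card Q = 1 := by
    rw [hc0, ← hζpow z0 (hcomZ _ _), pow_card_eq_one', hζ1]
  refine hc0ne ?_
  have hcop : N.Coprime (Nat.card Q) := (hp.coprime_iff_not_dvd.mpr hpQ).pow_left m
  have h := pow_gcd_eq_one.mpr ⟨hcN, hcQ⟩
  rwa [hcop, pow_one] at h

end Cfsg.Agent.ShultGross
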