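import Cfsg.Agent.Lib.ShultGross.Core
import Cfsg.Agent.Lib.Fpf.Four

/-!
The Fitting height of a solvable group with a fixed-point-free automorphism of odd prime-power
order.
-/

set_option autoImplicit false
set_option linter.unusedSectionVars false
set_option linter.style.haveILetI false

namespace Cfsg.Agent.ShultGross

open Module Finset
open scoped TensorProduct IsMulCommutative
open Cfsg.Agent.Fpf (Inv Free fix Compat)

universe u v

variable {A : Type u} [Group A] {s : A} {p n : ℕ}

theorem comm_of_gen (hs : ∀ a : A, a ∈ Subgroup.zpowers s) (a b : A) : a * b = b * a := by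
  obtain ⟨i, rfl⟩ := Subgroup.mem_zpowers_iff.mp (hs a)
  obtain ⟨j, rfl⟩ := Subgroup.mem_zpowers_iff.mp (hs b)
  rw [← zpow_add, ← zpow_add, add_comm]

theorem isPGroup_gen (hs : ∀ a : A, a ∈ Subgroup.zpowers s) (hsn : s ^ (p ^ n) = 1) :
    IsPGroup p A := fun a => ⟨n, by
  obtain ⟨z, rfl⟩ := Subgroup.mem_zpowers_iff.mp (hs a)
  rw [← zpow_natCast, ← zpow_mul, mul_comm, zpow_mul, zpow_natCast, hsn, one_zpow]⟩

/-- The key fact: the subgroup of order `p` centralises every group acting faithfully on a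
module without fixed vectors. -/
theorem tau_fix (hp : p.Prime) (hp2 : p ≠ 2) (hn : 1 ≤ n) (hs : ∀ a : A, a ∈ Subgroup.zpowers s)
    (hsn : s ^ (p ^ n) = 1) {q : ℕ} [hq : Fact q.Prime] {r : ℕ} [hr : Fact r.Prime] (hqr : q ≠ r)
    {W : Type u} [AddCommGroup W] [Finite W] (hexp : ∀ x : W, r • x = 0)
    (S : A →* AddMonoid.End W) (hS : ∀ x : W, S s x = x → x = 0) :
    ∀ (Q : Type u) [Group Q] [Finite Q], IsPGroup q Q → ∀ (α : A →* MulAut Q)
      (ρ : Q →* AddMonoid.End W), Compat α ρ S → Function.Injective ρ → Free α →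
      ∀ y, α (s ^ (p ^ (n - 1))) y = y := by
  intro Q _ _
  induction hN : Nat.card Q using Nat.strong_induction_on generalizing Q with
  | _ N ih =>
  subst hN
  intro hQ α ρ hc hinj hα
  haveI := Fact.mk hp
  set τ := s ^ (p ^ (n - 1)) with hτ
  have hA := isPGroup_gen hs hsn
  have hsfree : ∀ y, α s y = y → y = 1 := fun y hy => Fpf.free_of_gen hs hα hy
  set F0 := fix α τ with hF0
  have hF0i : Inv α F0 := Fpf.inv_fix α (comm_of_gen hs) τ
  have hsub : ∀ R : Subgroup Q, Inv α R → R ≠ ⊤ → R ≤ F0 := by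
    intro R hR hRt x hx
    have hlt : Nat.card R < Nat.card Q :=
      lt_of_le_of_ne (Subgroup.card_le_card_group R) fun e => hRt (Subgroup.eq_top_of_card_eq R e)
    exact congrArg Subtype.val (ih _ hlt R rfl (hQ.to_subgroup R) (Fpf.restrict R hR)
      (ρ.comp R.subtype) (fun a y v => hc a y v) (hinj.comp R.subtype_injective) (hα.restrict hR)
      ⟨x, hx⟩)
  by_contra hnot
  push Not at hnot
  obtain ⟨y0, hy0⟩ := hnot
  have hF0t : F0 ≠ ⊤ := fun e => hy0 (show y0 ∈ F0 by rw [e]; trivial)
  have hnQ : Group.IsNilpotent Q := hQ.isNilpotent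
  have hpQ : ¬ p ∣ Nat.card Q := hα.not_dvd_card hA
  have hτp : τ ^ p = 1 := by rw [hτ, ← pow_mul, ← pow_succ, Nat.sub_add_cancel hn, hsn]
  -- an element moved into a fixed element is fixed
  have hmove : ∀ y, y⁻¹ * α τ y ∈ F0 → y ∈ F0 := by
    intro y hy
    set c := y⁻¹ * α τ y with hcdef
    have hfix : α τ c = c := hy
    have hτy : α τ y = y * c := by rw [hcdef, mul_inv_cancel_left]
    have hpow : ∀ j : ℕ, α (τ ^ j) y = y * c ^ j := by
      intro j
      induction j with
      | zero => simp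
      | succ j ih =>
        rw [pow_succ', map_mul, MulAut.mul_apply, ih, map_mul, hτy, map_pow, hfix, mul_assoc,
          ← pow_succ']
    have h1 := hpow p
    rw [hτp, map_one, MulAut.one_apply, left_eq_mul] at h1
    have hc1 : c = 1 := by
      rw [← orderOf_eq_one_iff]
      exact Nat.eq_one_of_dvd_coprimes (hp.coprime_iff_not_dvd.mpr hpQ)
        (orderOf_dvd_of_pow_eq_one h1) (_root_.orderOf_dvd_natCard c)
    show α τ y = y
    rw [hτy, hc1, mul_one]
  -- the fixed subgroup is normal and central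
  haveI hF0n : F0.Normal := by
    rw [← Subgroup.normalizer_eq_top_iff]
    by_contra hne
    have hlt := normalizerCondition_of_isNilpotent F0 (lt_top_iff_ne_top.mpr hF0t)
    refine hlt.not_ge (hsub _ ?_ hne)
    intro a g hg
    rw [Subgroup.mem_normalizer_iff] at hg ⊢
    intro h
    obtain ⟨h', rfl⟩ := (α a).surjective h
    have hiff : ∀ x, α a x ∈ F0 ↔ x ∈ F0 := fun x => by
      refine ⟨fun hx => ?_, hF0i a x⟩
      have := hF0i a⁻¹ _ hx
      rwa [← MulAut.mul_apply, ← map_mul, inv_mul_cancel, map_one, MulAut.one_apply] at this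
    rw [← map_inv, ← map_mul, ← map_mul, hiff, hiff]
    exact hg h'
  set T := Subgroup.centralizer (F0 : Set Q) with hT
  have hTmem : ∀ y, y⁻¹ * α τ y ∈ T := by
    intro y
    rw [Subgroup.mem_centralizer_iff]
    intro f hf
    have hfix : ∀ g ∈ F0, α τ g = g := fun g hg => hg
    have h2 := hfix _ (hF0n.conj_mem f hf y)
    rw [map_mul, map_mul, map_inv, hfix f hf] at h2
    have h3 : y⁻¹ * (α τ y * f * (α τ y)⁻¹) * α τ y = y⁻¹ * (y * f * y⁻¹) * α τ y := by rw [h2]
    simpa [mul_assoc] using h3.symm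
  have hTtop : T = ⊤ := by
    by_contra hne
    exact hy0 (hmove y0 (hsub T hF0i.centralizer hne (hTmem y0)))
  have hF0Z : F0 ≤ Subgroup.center Q := Subgroup.centralizer_eq_top_iff_subset.mp hTtop
  have hqW : ∀ {m : ℕ}, m ∣ Nat.card Q → m.Coprime (Nat.card W) := by
    intro m hm
    obtain ⟨e, he⟩ := IsPGroup.iff_card.mp hQ
    have hW : IsPGroup r (Multiplicative W) := fun x => ⟨1, by
      rw [pow_one]; exact congrArg Multiplicative.ofAdd (hexp x.toAdd)⟩
    obtain ⟨f, hf⟩ := IsPGroup.iff_card.mp hW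
    rw [show Nat.card W = r ^ f from hf]
    exact (((Nat.coprime_primes hq.out hr.out).mpr hqr).pow e f).coprime_dvd_left (he ▸ hm)
  have haS : ∀ x : W, Fpf.aSum S s (p ^ n) x = 0 := fun x => hS _ (Fpf.S_aSum hsn x)
  by_cases hab : Subgroup.center Q = ⊤
  · -- commutative case
    let f : Q →* Q :=
      { toFun := fun y => y⁻¹ * α τ y
        map_one' := by simp
        map_mul' := fun x y => by
          have hcz : ∀ z g : Q, g * z = z * g := fun z g =>
            Subgroup.mem_center_iff.mp (hab ▸ Subgroup.mem_top z) g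
          rw [map_mul, mul_inv_rev, hcz x⁻¹ y⁻¹, mul_assoc x⁻¹, ← mul_assoc y⁻¹,
            hcz (α τ x) y⁻¹]
          simp only [mul_assoc] }
    have hfr : f.range = ⊤ := by
      by_contra hne
      refine hy0 (hmove y0 (hsub _ ?_ hne ⟨y0, rfl⟩))
      rintro a _ ⟨x, rfl⟩
      refine ⟨α a x, ?_⟩
      show (α a x)⁻¹ * α τ (α a x) = α a (x⁻¹ * α τ x)
      rw [map_mul, map_inv, ← MulAut.mul_apply, ← MulAut.mul_apply, ← map_mul, ← map_mul,
        comm_of_gen hs]
    have hfinj : Function.Injective f :=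
      Finite.injective_iff_surjective.mpr (MonoidHom.range_eq_top.mp hfr)
    have hF0bot : ∀ y, α τ y = y → y = 1 := fun y hy => hfinj (by
      show y⁻¹ * α τ y = f 1
      rw [hy, inv_mul_cancel, map_one])
    have hfix := fun x => Fpf.fixed_of_aSum_eq_zero hc ⊤ s (p ^ n) (pow_pos hp.pos n)
      (fun _ _ _ _ => trivial)
      (fun i hi hi0 z _ hz => hF0bot z (Fpf.fix_zpow α hz (tau_mem hp hsn hi0 hi)))
      (hqW (Subgroup.card_subgroup_dvd_card ⊤)) (x := x) (fun z _ => haS _)
    refine hy0 ?_
    have h1 : y0 = 1 := hinj (AddMonoidHom.ext fun x => by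
      rw [map_one]; exact hfix x y0 trivial)
    rw [h1, map_one]
  -- extend the scalars
  haveI : Module (ZMod r) W := AddCommGroup.zmodModule hexp
  haveI : Module.Finite (ZMod r) W := Module.Finite.of_finite
  let K := AlgebraicClosure (ZMod r)
  haveI : CharP K r := charP_of_injective_algebraMap (algebraMap (ZMod r) K).injective r
  let conv : AddMonoid.End W →* Module.End (ZMod r) W :=
    { toFun := fun f => AddMonoidHom.toZModLinearMap r f
      map_one' := LinearMap.ext fun _ => rfl
      map_mul' := fun _ _ => LinearMap.ext fun _ => rfl }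
  let bc : Module.End (ZMod r) W →* Module.End K (K ⊗[ZMod r] W) :=
    (Module.End.baseChangeHom (ZMod r) K W).toMonoidHom
  let ρK := bc.comp (conv.comp ρ)
  let SK := bc.comp (conv.comp S)
  have hbc : Function.Injective bc := by
    intro f g e
    refine LinearMap.ext fun w => ?_
    have h1 := LinearMap.congr_fun e ((1 : K) ⊗ₜ[ZMod r] w)
    have h2 : (1 : K) ⊗ₜ[ZMod r] f w = (1 : K) ⊗ₜ[ZMod r] g w := h1
    exact Module.FaithfullyFlat.tensorProduct_mk_injective (A := ZMod r) (B := K) W h2
  have hρK : Function.Injective ρK := fun x y e => hinj (AddMonoidHom.ext fun w =>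
    LinearMap.congr_fun (hbc e) w)
  have hcK : ∀ a y, SK a * ρK y = ρK (α a y) * SK a := fun a y => by
    show bc (conv (S a)) * bc (conv (ρ y)) = bc (conv (ρ (α a y))) * bc (conv (S a))
    rw [← map_mul bc, ← map_mul bc]
    exact congrArg bc (LinearMap.ext fun w => hc a y w)
  have hsumK : ∑ i ∈ range (p ^ n), SK (s ^ i) = 0 := by
    show ∑ i ∈ range (p ^ n), Module.End.baseChangeHom (ZMod r) K W (conv (S (s ^ i))) = 0
    rw [← map_sum, show ∑ i ∈ range (p ^ n), conv (S (s ^ i)) = 0 from LinearMap.ext fun w => ?_,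
      map_zero]
    rw [LinearMap.sum_apply]
    exact haS w
  have hrp : r ≠ p := by
    rintro rfl
    -- a group of order a power of the characteristic has a fixed vector
    haveI : Nontrivial W := by
      by_contra h
      rw [not_nontrivial_iff_subsingleton] at h
      exact hy0 (hinj (AddMonoidHom.ext fun x => Subsingleton.elim _ _))
    letI : MulAction A W :=
      { smul := fun a x => S a x
        one_smul := fun x => Fpf.one_apply' S x
        mul_smul := fun a b x => Fpf.mul_apply' S a b x }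
    have hW : IsPGroup r (Multiplicative W) := fun x => ⟨1, by
      rw [pow_one]; exact congrArg Multiplicative.ofAdd (hexp x.toAdd)⟩
    obtain ⟨f, hf⟩ := IsPGroup.iff_card.mp hW
    have hrW : r ∣ Nat.card W := by
      have h1 : 1 < Nat.card W := Finite.one_lt_card
      rw [show Nat.card W = r ^ f from hf] at h1 ⊢
      exact dvd_pow_self r fun e => by rw [e, pow_zero] at h1; exact lt_irrefl 1 h1
    obtain ⟨x, hx, hxne⟩ := hA.exists_fixed_point_of_prime_dvd_card_of_fixed_point W hrW
      (fun a => map_zero (S a) : (0 : W) ∈ MulAction.fixedPoints A W)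
    exact hxne (hS x (hx s)).symm
  have hZF : Subgroup.center Q = F0 :=
    le_antisymm (hsub _ (Fpf.inv_char α _) hab) hF0Z
  exact absurd_of_nonabelian hp hp2 hn hs hsn hQ α hsfree (hF0 ▸ hZF.symm) hab
    (fun R hR hRt => hZF ▸ hsub R hR hRt) ρK hρK SK hcK hsumK
    (by rw [Ne, CharP.cast_eq_zero_iff K r]
        exact fun h => hqr ((Nat.prime_dvd_prime_iff_eq hr.out hq.out).mp h).symm)
    (by rw [Ne, CharP.cast_eq_zero_iff K r]
        exact fun h => hrp ((Nat.prime_dvd_prime_iff_eq hr.out hp).mp h))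

theorem mem_fitting (hp : p.Prime) (hp2 : p ≠ 2) (hn : 1 ≤ n)
    (hs : ∀ a : A, a ∈ Subgroup.zpowers s) (hsn : s ^ (p ^ n) = 1) {G : Type u} [Group G] [Finite G]
    [Group.IsSolvable G] (φ : A →* MulAut G) (hf : Free φ) :
    ∀ g : G, g⁻¹ * φ (s ^ (p ^ (n - 1))) g ∈ fittingSubgroup G := by
  have hA := isPGroup_gen hs hsn
  haveI := Fact.mk hp
  set τ := s ^ (p ^ (n - 1)) with hτ
  induction hc : Nat.card G using Nat.strong_induction_on generalizing G with
  | _ N ih =>
    subst hc
    intro g
    rcases subsingleton_or_nontrivial G with hG | hG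
    · rw [Subsingleton.elim (g⁻¹ * φ τ g) 1]; exact one_mem _
    obtain ⟨V, r, hVn, hi, hne, hr, hab, hexp, hmin⟩ := Fpf.exists_minimal φ
    haveI := Fact.mk hr
    set C := Subgroup.centralizer (V : Set G) with hC
    set ψ := Fpf.quot C hi.centralizer with hψ
    set F := fittingSubgroup (G ⧸ C) with hFdef
    have hFi : Inv ψ F := Fpf.inv_char ψ F
    have hψfree : Free ψ := hf.quot hA C hi.centralizer
    haveI : Group.IsNilpotent F := inferInstance
    let H : Subgroup F := (fix ψ τ).subgroupOf F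
    have hH : H = ⊤ := by
      refine Subgroup.eq_top_of_card_eq H (Nat.dvd_antisymm H.card_subgroup_dvd_card ?_)
      refine (Nat.dvd_iff_prime_pow_dvd_dvd _ _).mpr fun q e hq hd => ?_
      rcases Nat.eq_zero_or_pos e with rfl | he
      · simp
      haveI := Fact.mk hq
      have hqF : q ∣ Nat.card F := (dvd_pow_self q he.ne').trans hd
      have hqr : q ≠ r := fun e => Fpf.not_dvd_card_fitting V hne hi hmin hexp (e ▸ hqF)
      obtain ⟨R⟩ : Nonempty (Sylow q F) := Sylow.nonempty
      have hRn : (R : Subgroup F).Normal := by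
        have hiff : Group.IsNilpotent F ↔
            ∀ (q : ℕ) (_ : Fact q.Prime) (P : Sylow q F), (P : Subgroup F).Normal :=
          (Group.isNilpotent_of_finite_tfae (G := F)).out 0 3
        exact hiff.mp inferInstance q inferInstance R
      have hRi : Inv (Fpf.restrict F hFi) (R : Subgroup F) :=
        haveI := Sylow.characteristic_of_normal R hRn
        Fpf.inv_char _ _
      have hfix := tau_fix hp hp2 hn hs hsn hqr (W := Additive V)
        (fun x => Additive.toMul.injective (Subtype.ext (hexp _ (Additive.toMul x).2)))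
        (Fpf.actRep φ V hi)
        (fun x hx => Fpf.actRep_free V hf hi x fun a => by
          refine Additive.toMul.injective (Subtype.ext ?_)
          rw [Fpf.actRep_apply]
          exact Fpf.fix_zpow φ (by rw [← Fpf.actRep_apply φ V hi, hx]) (hs a))
        (R : Subgroup F) R.isPGroup' (Fpf.restrict _ hRi)
        ((Fpf.quotRep V).comp (F.subtype.comp (R : Subgroup F).subtype))
        (fun a y x => Fpf.compat_quotRep V hi a (((y : F) : G ⧸ C)) x)
        (fun x y e => Subtype.ext (Subtype.ext (inv_mul_eq_one.mp (Fpf.quotRep_eq_one V (by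
          rw [map_mul]
          rw [show Fpf.quotRep V ((y : F) : G ⧸ C) = Fpf.quotRep V ((x : F) : G ⧸ C) from e.symm,
            ← map_mul, inv_mul_cancel, map_one])))))
        ((hψfree.restrict hFi).restrict hRi)
      have hRH : (R : Subgroup F) ≤ H := fun x hx =>
        Subgroup.mem_subgroupOf.mpr (congrArg (fun z : (R : Subgroup F) => ((z : F) : G ⧸ C))
          (hfix ⟨x, hx⟩))
      refine dvd_trans ?_ (Subgroup.card_dvd_of_le hRH)
      rw [R.card_eq_multiplicity]
      exact pow_dvd_pow q ((hq.pow_dvd_iff_le_factorization Nat.card_pos.ne').mp hd)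
    have hfix : ∀ f ∈ F, ψ τ f = f := fun f hf' => by
      have : (⟨f, hf'⟩ : F) ∈ H := by rw [hH]; trivial
      exact Subgroup.mem_subgroupOf.mp this
    set y : G ⧸ C := (g : G ⧸ C) with hy
    set c := y⁻¹ * ψ τ y with hcdef
    have hcC : c ∈ Subgroup.centralizer (F : Set (G ⧸ C)) := by
      rw [Subgroup.mem_centralizer_iff]
      intro f hf'
      have h1 : y * f * y⁻¹ ∈ F := (inferInstance : F.Normal).conj_mem f hf' y
      have h2 := hfix _ h1
      rw [map_mul, map_mul, map_inv, hfix f hf'] at h2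
      have h3 : y⁻¹ * (ψ τ y * f * (ψ τ y)⁻¹) * ψ τ y = y⁻¹ * (y * f * y⁻¹) * ψ τ y := by rw [h2]
      rw [hcdef]
      simpa [mul_assoc] using h3.symm
    haveI : Group.IsSolvable (G ⧸ C) := inferInstance
    have hcfix : ψ τ c = c := hfix c (Basics.centralizer_fittingSubgroup_le hcC)
    have hτy : ψ τ y = y * c := by rw [hcdef, mul_inv_cancel_left]
    have hpow : ∀ j : ℕ, ψ (τ ^ j) y = y * c ^ j := by
      intro j
      induction j with
      | zero => simp
      | succ j ih2 =>
        rw [pow_succ', map_mul, MulAut.mul_apply, ih2, map_mul, hτy, map_pow, hcfix, mul_assoc,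
          ← pow_succ']
    have h4 := hpow p
    rw [hτ, ← pow_mul, ← pow_succ, Nat.sub_add_cancel hn, hsn, map_one, MulAut.one_apply,
      left_eq_mul] at h4
    have hc1 : c = 1 := by
      rw [← orderOf_eq_one_iff]
      exact Nat.eq_one_of_dvd_coprimes (hp.coprime_iff_not_dvd.mpr (hψfree.not_dvd_card hA))
        (orderOf_dvd_of_pow_eq_one h4) (_root_.orderOf_dvd_natCard c)
    refine Fpf.mem_fitting_of_quotient V ?_ ?_
    · have hlt : Nat.card (G ⧸ V) < Nat.card G := by
        rw [V.card_eq_card_quotient_mul_card_subgroup]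
        exact lt_mul_of_one_lt_right Nat.card_pos ((Subgroup.one_lt_card_iff_ne_bot V).mpr hne)
      exact ih _ hlt (Fpf.quot V hi) (hf.quot hA V hi) rfl (g : G ⧸ V)
    · exact (QuotientGroup.eq_one_iff _).mp hc1

/-- The chain. -/
theorem exists_chain (hp : p.Prime) (hp2 : p ≠ 2) :
    ∀ (n : ℕ) (A : Type u) [Group A] (s : A), (∀ a : A, a ∈ Subgroup.zpowers s) →
      s ^ (p ^ n) = 1 → ∀ (G : Type u) [Group G] [Finite G] [Group.IsSolvable G]
        (φ : A →* MulAut G), Free φ →
      ∃ F : Fin (n + 1) → Subgroup G, F 0 = ⊥ ∧ F (Fin.last n) = ⊤ ∧ Monotone F ∧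
        (∀ i, (F i).Normal) ∧
        ∀ i : Fin n, ∃ k : ℕ, (F i.succ).lowerCentralSeries k ≤ F i.castSucc := by
  intro n
  induction n with
  | zero =>
    intro A _ s hs hs1 G _ _ _ φ hf
    rw [pow_zero, pow_one] at hs1
    have hG : ∀ g : G, g = 1 := fun g => hf g fun a => by
      obtain ⟨z, rfl⟩ := Subgroup.mem_zpowers_iff.mp (hs a)
      rw [hs1, one_zpow, map_one, MulAut.one_apply]
    exact ⟨fun _ => ⊥, rfl, eq_top_iff.mpr fun g _ => by rw [hG g]; exact one_mem _,
      monotone_const, fun _ => inferInstance, fun i => i.elim0⟩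
  | succ n ih =>
    intro A _ s hs hsn G _ _ _ φ hf
    haveI := Fact.mk hp
    set F1 := fittingSubgroup G with hF1
    have hi : Inv φ F1 := Fpf.inv_char φ F1
    set ψ := Fpf.quot F1 hi with hψ
    have hA := isPGroup_gen hs hsn
    have hψn : ψ (s ^ (p ^ n)) = 1 := by
      refine MulEquiv.ext fun x => ?_
      obtain ⟨g, rfl⟩ := QuotientGroup.mk_surjective x
      rw [MulAut.one_apply, hψ, Fpf.quot_mk, eq_comm, QuotientGroup.eq]
      have := mem_fitting hp hp2 (Nat.le_add_left 1 n) hs hsn φ hf g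
      rwa [Nat.add_sub_cancel] at this
    let s' : ψ.range := ⟨ψ s, ⟨s, rfl⟩⟩
    have hs' : ∀ a : ψ.range, a ∈ Subgroup.zpowers s' := by
      rintro ⟨_, a, rfl⟩
      obtain ⟨z, rfl⟩ := Subgroup.mem_zpowers_iff.mp (hs a)
      exact ⟨z, Subtype.ext (by rw [SubgroupClass.coe_zpow]; exact (map_zpow ψ s z).symm)⟩
    have hfψ : Free (ψ.range.subtype) := fun x hx =>
      (hf.quot hA F1 hi) x fun a => hx ⟨ψ a, ⟨a, rfl⟩⟩
    obtain ⟨F', h0, hlast, hmono, hnorm, hnil⟩ :=
      ih ψ.range s' hs' (Subtype.ext (by rw [SubgroupClass.coe_pow, ← map_pow, hψn]; rfl))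
        (G ⧸ F1) ψ.range.subtype hfψ
    let f := QuotientGroup.mk' F1
    refine ⟨Fin.cons ⊥ fun i => (F' i).comap f, rfl, ?_, ?_, ?_, ?_⟩
    · rw [← Fin.succ_last, Fin.cons_succ, hlast, Subgroup.comap_top]
    · rw [Fin.monotone_iff_le_succ]
      intro i
      cases i using Fin.cases with
      | zero => exact bot_le
      | succ j =>
        rw [← Fin.succ_castSucc, Fin.cons_succ, Fin.cons_succ]
        exact Subgroup.comap_mono (hmono (Fin.castSucc_le_succ j))
    · intro i
      cases i using Fin.cases with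
      | zero => rw [Fin.cons_zero]; infer_instance
      | succ j => rw [Fin.cons_succ]; exact (hnorm j).comap f
    · intro i
      cases i using Fin.cases with
      | zero =>
        obtain ⟨k, hk⟩ := Subgroup.nilpotent_iff_lowerCentralSeries.mp
          (inferInstance : Group.IsNilpotent F1)
        refine ⟨k, ?_⟩
        rw [Fin.cons_succ, h0, MonoidHom.comap_bot, QuotientGroup.ker_mk', Fin.castSucc_zero,
          Fin.cons_zero, ← Subgroup.top_subtype_lowerCentralSeries, hk, Subgroup.map_bot]
      | succ j =>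
        obtain ⟨k, hk⟩ := hnil j
        refine ⟨k, ?_⟩
        rw [Fin.cons_succ, ← Fin.succ_castSucc, Fin.cons_succ, ← Subgroup.map_le_iff_le_comap,
          Subgroup.map_lowerCentralSeries,
          Subgroup.map_comap_eq_self_of_surjective (QuotientGroup.mk'_surjective F1)]
        exact hk

end Cfsg.Agent.ShultGross
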