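import Mathlib

/-!
A cyclic group acting fixed-point-freely on a nondegenerate commutator section, in a representation.
-/

set_option autoImplicit false
set_option linter.unusedSectionVars false

namespace Cfsg.Agent.ShultGross

open Module Finset
open scoped commutatorElement

variable {K : Type*} [Field K] {Q : Type*} [Group Q] [Finite Q]

/-- A representation scalar on `Z1`, with a twisting operator. -/
structure Setup {V : Type*} [AddCommGroup V] [Module K V] (ρ : Q →* Module.End K V) (Z1 : Subgroup Q)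
    (χ : Q → K) (a : MulAut Q) (S : Module.End K V) (N : ℕ) : Prop where
  comm_mem : ∀ (w u : Q), ⁅w, u⁆ ∈ Z1
  scalar : ∀ z ∈ Z1, ρ z = χ z • (1 : Module.End K V)
  chi_inv : ∀ z ∈ Z1, χ (a z) = χ z
  inv : ∀ (z : Q), a z ∈ Z1 ↔ z ∈ Z1
  nondeg : ∀ (u : Q), u ∉ Z1 → ∃ w : Q, χ ⁅w, u⁆ ≠ 1
  fpf : ∀ (j : ℕ), 0 < j → j < N → ∀ (u : Q), u⁻¹ * (a ^ j) u ∈ Z1 → u ∈ Z1
  apow : a ^ N = 1
  compat : ∀ (u : Q), S * ρ u = ρ (a u) * S
  spow : S ^ N = 1
  ssum : ∑ j ∈ range N, S ^ j = 0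
  cardQ : (Nat.card Q : K) ≠ 0
  cardN : (N : K) ≠ 0
  one_lt : 1 < N

namespace Setup

variable {V : Type*} [AddCommGroup V] [Module K V] [Nontrivial V]
  {ρ : Q →* Module.End K V} {Z1 : Subgroup Q} [Z1.Normal] {χ : Q → K} {a : MulAut Q}
  {S : Module.End K V} {N : ℕ}

/-- commutator pairing -/
def pair (χ : Q → K) (w u : Q) : K := χ ⁅w, u⁆

theorem rho_inv_mul (u : Q) : ρ u⁻¹ * ρ u = 1 := by rw [← map_mul, inv_mul_cancel, map_one]

theorem rho_mul_inv (u : Q) : ρ u * ρ u⁻¹ = 1 := by rw [← map_mul, mul_inv_cancel, map_one]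

theorem cancel (u : Q) {x y : K} (h : x • ρ u = y • ρ u) : x = y := by
  have h1 := congrArg (ρ u⁻¹ * ·) h
  simp only [mul_smul_comm, rho_inv_mul] at h1
  exact smul_left_injective K (one_ne_zero (α := Module.End K V)) h1

theorem rho_ne_zero (u : Q) : ρ u ≠ 0 := fun h => zero_ne_one (α := Module.End K V) (by
  rw [← rho_inv_mul (ρ := ρ) u, h, mul_zero])

variable (h : Setup ρ Z1 χ a S N)
include h

theorem comm (w u : Q) : ρ w * ρ u = pair χ w u • (ρ u * ρ w) := by
  rw [← map_mul, ← map_mul, show w * u = ⁅w, u⁆ * (u * w) by rw [commutatorElement_def]; group,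
    map_mul, h.scalar _ (h.comm_mem w u), smul_one_mul]
  rfl

theorem pair_mul_right (w u u' : Q) : pair χ w (u * u') = pair χ w u * pair χ w u' := by
  refine cancel (ρ := ρ) (u * u' * w) ?_
  calc pair χ w (u * u') • ρ (u * u' * w) = ρ w * ρ (u * u') := by rw [h.comm, map_mul ρ (u * u')]
    _ = ρ w * ρ u * ρ u' := by rw [map_mul, mul_assoc]
    _ = pair χ w u • (ρ u * (ρ w * ρ u')) := by rw [h.comm w u, smul_mul_assoc, mul_assoc]
    _ = _ := by rw [h.comm w u', mul_smul_comm, smul_smul, map_mul, map_mul, mul_assoc]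

theorem pair_mul_left (w w' u : Q) : pair χ (w * w') u = pair χ w u * pair χ w' u := by
  refine cancel (ρ := ρ) (u * (w * w')) ?_
  calc pair χ (w * w') u • ρ (u * (w * w')) = ρ (w * w') * ρ u := by rw [h.comm, map_mul ρ u]
    _ = ρ w * (ρ w' * ρ u) := by rw [map_mul, mul_assoc]
    _ = pair χ w' u • (ρ w * ρ u * ρ w') := by rw [h.comm w' u, mul_smul_comm, mul_assoc]
    _ = _ := by rw [h.comm w u, smul_mul_assoc, smul_smul, map_mul, map_mul, mul_assoc, mul_comm]

theorem pair_left_Z {z : Q} (hz : z ∈ Z1) (u : Q) : pair χ z u = 1 := by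
  refine cancel (ρ := ρ) (u * z) ?_
  rw [one_smul, map_mul, ← h.comm, h.scalar z hz, smul_one_mul, mul_smul_comm, mul_one]

theorem pair_right_Z {z : Q} (hz : z ∈ Z1) (u : Q) : pair χ u z = 1 := by
  refine cancel (ρ := ρ) (z * u) ?_
  rw [one_smul, map_mul, ← h.comm, h.scalar z hz, smul_one_mul, mul_smul_comm, mul_one]

theorem pair_one_left (u : Q) : pair χ 1 u = 1 := h.pair_left_Z (one_mem _) u

theorem pair_one_right (u : Q) : pair χ u 1 = 1 := h.pair_right_Z (one_mem _) u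

theorem pair_swap (w u : Q) : pair χ w u * pair χ u w = 1 := by
  refine cancel (ρ := ρ) (w * u) ?_
  rw [one_smul, map_mul]
  conv_rhs => rw [h.comm w u, h.comm u w, smul_smul]

theorem conj (w u : Q) : ρ w * ρ u * ρ w⁻¹ = pair χ w u • ρ u := by
  rw [h.comm, smul_mul_assoc, mul_assoc, rho_mul_inv, mul_one]

theorem sum_pair_left [Fintype Q] (u : Q) [Decidable (u ∈ Z1)] :
    ∑ w : Q, pair χ w u = if u ∈ Z1 then (Nat.card Q : K) else 0 := by
  split_ifs with hu
  · rw [Finset.sum_congr rfl fun w _ => h.pair_right_Z hu w, Finset.sum_const, Finset.card_univ,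
      Nat.card_eq_fintype_card, nsmul_one]
  · let f : Q →* K :=
      { toFun := fun w => pair χ w u
        map_one' := h.pair_one_left u
        map_mul' := fun w w' => h.pair_mul_left w w' u }
    refine sum_hom_units_eq_zero f fun hf => ?_
    obtain ⟨w, hw⟩ := h.nondeg u hu
    exact hw (DFunLike.congr_fun hf w)

theorem sum_pair_right [Fintype Q] (w : Q) [Decidable (w ∈ Z1)] :
    ∑ u : Q, pair χ w u = if w ∈ Z1 then (Nat.card Q : K) else 0 := by
  split_ifs with hw
  · rw [Finset.sum_congr rfl fun u _ => h.pair_left_Z hw u, Finset.sum_const, Finset.card_univ,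
      Nat.card_eq_fintype_card, nsmul_one]
  · let f : Q →* K :=
      { toFun := fun u => pair χ w u
        map_one' := h.pair_one_right w
        map_mul' := fun u u' => h.pair_mul_right w u u' }
    refine sum_hom_units_eq_zero f fun hf => ?_
    obtain ⟨u, hu⟩ := h.nondeg w hw
    refine hu ?_
    have h1 := h.pair_swap u w
    rwa [show pair χ w u = 1 from DFunLike.congr_fun hf u, mul_one] at h1

omit h in
/-- scalar of `u` against the chosen representative of its coset -/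
noncomputable def phase (Z1 : Subgroup Q) (χ : Q → K) (u : Q) : K := χ (((u : Q ⧸ Z1).out)⁻¹ * u)

theorem out_inv_mul_mem (u : Q) : ((u : Q ⧸ Z1).out)⁻¹ * u ∈ Z1 :=
  QuotientGroup.eq.mp (QuotientGroup.out_eq' _)

theorem rho_eq (u : Q) : ρ u = phase Z1 χ u • ρ ((u : Q ⧸ Z1).out) := by
  conv_lhs => rw [← mul_inv_cancel_left ((u : Q ⧸ Z1).out) u, map_mul,
    h.scalar _ (h.out_inv_mul_mem u), mul_smul_comm, mul_one]
  rfl

theorem phase_ne_zero (u : Q) : phase Z1 χ u ≠ 0 := fun e =>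
  rho_ne_zero (ρ := ρ) u (by rw [h.rho_eq, e, zero_smul])

theorem indep [Fintype (Q ⧸ Z1)] {W : Submodule K V} (hW : ∀ u, ∀ v ∈ W, ρ u v ∈ W) (hne : W ≠ ⊥)
    (c : Q ⧸ Z1 → K) (hc : ∀ v ∈ W, (∑ x, c x • ρ x.out) v = 0) : c = 0 := by
  classical
  haveI := Fintype.ofFinite Q
  obtain ⟨v, hv, hv0⟩ := Submodule.exists_mem_ne_zero_of_ne_bot hne
  funext y
  have key : ∀ w : Q, (∑ x, (c x * pair χ w x.out) • ρ x.out) v = 0 := by
    intro w
    have h1 : ρ w * (∑ x, c x • ρ x.out) * ρ w⁻¹ = ∑ x, (c x * pair χ w x.out) • ρ x.out := by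
      rw [Finset.mul_sum, Finset.sum_mul]
      refine Finset.sum_congr rfl fun x _ => ?_
      rw [mul_smul_comm, smul_mul_assoc, h.conj, smul_smul]
    rw [← h1, Module.End.mul_apply, Module.End.mul_apply, hc _ (hW _ v hv), map_zero]
  have h2 : (∑ w : Q, pair χ w y.out⁻¹ • ∑ x, (c x * pair χ w x.out) • ρ x.out) v = 0 := by
    rw [LinearMap.sum_apply]
    exact Finset.sum_eq_zero fun w _ => by rw [LinearMap.smul_apply, key, smul_zero]
  have h3 : (∑ w : Q, pair χ w y.out⁻¹ • ∑ x, (c x * pair χ w x.out) • ρ x.out) =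
      (c y * (Nat.card Q : K)) • ρ y.out := by
    simp only [Finset.smul_sum, smul_smul]
    rw [Finset.sum_comm, Finset.sum_eq_single y]
    · rw [← Finset.sum_smul]
      congr 1
      rw [Nat.card_eq_fintype_card, ← Finset.card_univ, ← nsmul_one, ← Finset.sum_const,
        Finset.mul_sum]
      refine Finset.sum_congr rfl fun w _ => ?_
      rw [mul_left_comm, ← h.pair_mul_right, inv_mul_cancel, h.pair_one_right]
    · intro x _ hxy
      rw [← Finset.sum_smul]
      have e : ∀ w, pair χ w y.out⁻¹ * (c x * pair χ w x.out) = c x * pair χ w (y.out⁻¹ * x.out) :=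
        fun w => by rw [h.pair_mul_right]; ring
      rw [Finset.sum_congr rfl fun w _ => e w, ← Finset.mul_sum, h.sum_pair_left, if_neg, mul_zero,
        zero_smul]
      intro hm
      apply hxy
      have := QuotientGroup.eq.mpr hm
      rwa [QuotientGroup.out_eq', QuotientGroup.out_eq', eq_comm] at this
    · exact fun hn => absurd (Finset.mem_univ y) hn
  rw [h3, LinearMap.smul_apply, smul_eq_zero] at h2
  rcases h2 with h2 | h2
  · exact (mul_eq_zero.mp h2).resolve_right h.cardQ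
  · exfalso
    have := congrArg (ρ y.out⁻¹) h2
    rw [← Module.End.mul_apply, rho_inv_mul, map_zero] at this
    exact hv0 this

theorem S_inj {v : V} (hv : S v = 0) : v = 0 := by
  have h1 : (S ^ (N - 1) * S) v = 0 := by rw [Module.End.mul_apply, hv, map_zero]
  rwa [← pow_succ, Nat.sub_add_cancel h.one_lt.le, h.spow, Module.End.one_apply] at h1

theorem rho_a_Z {z : Q} (hz : z ∈ Z1) : ρ (a z) = ρ z := by
  rw [h.scalar _ ((h.inv z).mpr hz), h.scalar z hz, h.chi_inv z hz]

variable [IsAlgClosed K] [FiniteDimensional K V]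

/-- An irreducible `Q`-subspace invariant under `S`. -/
theorem exists_irreducible : ∃ W : Submodule K V, W ≠ ⊥ ∧ (∀ u, ∀ v ∈ W, ρ u v ∈ W) ∧
    (∀ v ∈ W, S v ∈ W) ∧
    ∀ W' : Submodule K V, W' ≤ W → W' ≠ ⊥ → (∀ u, ∀ v ∈ W', ρ u v ∈ W') → W' = W := by
  classical
  haveI := Fintype.ofFinite Q
  haveI := Fintype.ofFinite (Q ⧸ Z1)
  haveI := Fintype.ofFinite Z1
  set U : Module.End K V := ∑ u : Q, ρ (u * (a u)⁻¹) with hU
  set C : Module.End K V := U * S with hC
  have hCsum : C = ∑ u : Q, ρ u * S * ρ u⁻¹ := by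
    rw [hC, hU, Finset.sum_mul]
    refine Finset.sum_congr rfl fun u _ => ?_
    rw [mul_assoc (ρ u), h.compat, map_inv a, map_mul, mul_assoc]
  have hCQ : ∀ w, ρ w * C = C * ρ w := by
    intro w
    rw [hCsum, Finset.mul_sum, Finset.sum_mul]
    refine Fintype.sum_equiv (Equiv.mulLeft w) _ _ fun u => ?_
    show _ = ρ (w * u) * S * ρ (w * u)⁻¹ * ρ w
    rw [mul_inv_rev, map_mul, map_mul, mul_assoc _ (ρ u⁻¹ * ρ w⁻¹), mul_assoc (ρ u⁻¹), rho_inv_mul,
      mul_one]
    simp only [mul_assoc]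
  have hCS : S * C = C * S := by
    rw [hCsum, Finset.mul_sum, Finset.sum_mul]
    refine Fintype.sum_equiv a.toEquiv _ _ fun u => ?_
    show _ = ρ (a u) * S * ρ (a u)⁻¹ * S
    calc S * (ρ u * S * ρ u⁻¹) = (S * ρ u) * S * ρ u⁻¹ := by simp only [mul_assoc]
      _ = ρ (a u) * S * S * ρ u⁻¹ := by rw [h.compat]
      _ = ρ (a u) * S * (S * ρ u⁻¹) := by simp only [mul_assoc]
      _ = ρ (a u) * S * (ρ (a u⁻¹) * S) := by rw [h.compat u⁻¹]
      _ = _ := by rw [map_inv a]; simp only [mul_assoc]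
  -- the map `x ↦ x (a x)⁻¹` on the section
  have hwd : Z1.map a.toMonoidHom = Z1 := by
    refine le_antisymm ?_ fun z hz => ⟨a.symm z, ?_, a.apply_symm_apply z⟩
    · rintro _ ⟨z, hz, rfl⟩; exact (h.inv z).mpr hz
    · exact (h.inv _).mp (by rwa [a.apply_symm_apply])
  set ab : Q ⧸ Z1 ≃* Q ⧸ Z1 := QuotientGroup.congr Z1 Z1 a hwd with hab
  have habmk : ∀ u : Q, ab (u : Q ⧸ Z1) = ((a u : Q) : Q ⧸ Z1) := fun u => rfl
  have hf : Function.Bijective fun x : Q ⧸ Z1 => x * (ab x)⁻¹ := by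
    refine (Finite.injective_iff_bijective).mp fun x y e => ?_
    have e2 : ab (y⁻¹ * x) = y⁻¹ * x := by
      rw [map_mul, map_inv]
      have e1 : x * (ab x)⁻¹ = y * (ab y)⁻¹ := e
      have e3 := congrArg (fun t => y⁻¹ * t * ab x) e1
      simp only [mul_assoc, inv_mul_cancel, mul_one, inv_mul_cancel_left] at e3
      exact e3.symm
    obtain ⟨u, hu⟩ := QuotientGroup.mk'_surjective Z1 (y⁻¹ * x)
    rw [← hu] at e2
    have hu' := h.fpf 1 one_pos h.one_lt u (by
      rw [pow_one]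
      exact QuotientGroup.eq.mp e2.symm)
    have : y⁻¹ * x = 1 := by rw [← hu]; exact (QuotientGroup.eq_one_iff u).mpr hu'
    exact (inv_mul_eq_one.mp this).symm
  let g : Q ⧸ Z1 → Q := fun x => x.out * (a x.out)⁻¹
  have hgmk : ∀ x, ((g x : Q) : Q ⧸ Z1) = x * (ab x)⁻¹ := by
    intro x
    show QuotientGroup.mk' Z1 (x.out * (a x.out)⁻¹) = _
    rw [map_mul, map_inv]
    show (x.out : Q ⧸ Z1) * (ab (x.out : Q ⧸ Z1))⁻¹ = _
    rw [QuotientGroup.out_eq']
  set e := Equiv.ofBijective _ hf with he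
  let c : Q ⧸ Z1 → K := fun y => (Nat.card Z1 : K) * phase Z1 χ (g (e.symm y))
  have hUeq : U = ∑ y, c y • ρ y.out := by
    have h1 : U = ∑ p : (Q ⧸ Z1) × Z1, ρ (g p.1) := by
      rw [hU]
      refine (Fintype.sum_bijective (fun p : (Q ⧸ Z1) × Z1 => p.1.out * (p.2 : Q)) ⟨?_, ?_⟩ _ _ ?_).symm
      · rintro ⟨x, z⟩ ⟨x', z'⟩ hh
        have hxx : x = x' := by
          have := congrArg (QuotientGroup.mk (s := Z1)) hh
          rwa [QuotientGroup.mk_mul_of_mem _ z.2, QuotientGroup.mk_mul_of_mem _ z'.2,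
            QuotientGroup.out_eq', QuotientGroup.out_eq'] at this
        subst hxx
        exact Prod.ext rfl (Subtype.ext (mul_left_cancel hh))
      · exact fun u => ⟨((u : Q ⧸ Z1), ⟨_, h.out_inv_mul_mem u⟩), mul_inv_cancel_left _ _⟩
      · rintro ⟨x, z⟩
        show ρ (g x) = ρ (x.out * (z : Q) * (a (x.out * z))⁻¹)
        rw [show x.out * (z : Q) * (a (x.out * z))⁻¹ = x.out * ((z : Q) * a (z : Q)⁻¹) * (a x.out)⁻¹ by
          rw [map_mul, map_inv]; group]
        simp only [map_mul ρ, h.rho_a_Z (inv_mem z.2), rho_mul_inv, mul_one]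
        exact map_mul ρ _ _
    rw [h1, Fintype.sum_prod_type]
    simp only [Finset.sum_const, Finset.card_univ]
    rw [← Equiv.sum_comp e (fun y => c y • ρ y.out)]
    refine Finset.sum_congr rfl fun x _ => ?_
    show _ = ((Nat.card Z1 : K) * phase Z1 χ (g (e.symm (e x)))) • ρ (e x).out
    rw [e.symm_apply_apply, mul_smul, show e x = ((g x : Q) : Q ⧸ Z1) from (hgmk x).symm, ← h.rho_eq,
      Nat.card_eq_fintype_card, Nat.cast_smul_eq_nsmul]
  have hcne : c ≠ 0 := by
    intro hc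
    refine mul_ne_zero ?_ (h.phase_ne_zero _) (congrFun hc 1)
    intro h0
    apply h.cardQ
    rw [← Z1.card_mul_index, Nat.cast_mul, h0, zero_mul]
  have hUinj : ∀ v, U v = 0 → v = 0 := by
    intro v hv
    by_contra hv0
    refine hcne (h.indep (W := LinearMap.ker U) ?_ ?_ c ?_)
    · intro w x hx
      rw [LinearMap.mem_ker] at hx ⊢
      set y := (S ^ (N - 1)) x with hy
      have hxy : S y = x := by
        rw [hy, ← Module.End.mul_apply, ← pow_succ', Nat.sub_add_cancel h.one_lt.le, h.spow,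
          Module.End.one_apply]
      have hCy : C y = 0 := by rw [hC, Module.End.mul_apply, hxy, hx]
      have h1 : ρ w x = S (ρ (a.symm w) y) := by
        rw [← Module.End.mul_apply S, h.compat, a.apply_symm_apply, Module.End.mul_apply, hxy]
      rw [h1, ← Module.End.mul_apply U, ← hC, ← Module.End.mul_apply C, ← hCQ, Module.End.mul_apply,
        hCy, map_zero]
    · exact fun hb => hv0 ((Submodule.eq_bot_iff _).mp hb v (LinearMap.mem_ker.mpr hv))
    · intro x hx
      rw [← hUeq]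
      exact LinearMap.mem_ker.mp hx
  obtain ⟨cc, hcc⟩ := Module.End.exists_eigenvalue C
  have hcc0 : cc ≠ 0 := by
    rintro rfl
    obtain ⟨v, hv⟩ := hcc.exists_hasEigenvector
    have h1 : C v = 0 := by rw [hv.apply_eq_smul, zero_smul]
    exact hv.2 (h.S_inj (hUinj _ h1))
  set E := C.eigenspace cc
  have hEQ : ∀ u, ∀ v ∈ E, ρ u v ∈ E := fun u v hv => by
    rw [Module.End.mem_eigenspace_iff] at hv ⊢
    rw [← Module.End.mul_apply, ← hCQ, Module.End.mul_apply, hv, map_smul]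
  obtain ⟨W, ⟨hWE, hW0, hWQ⟩, hWmin⟩ := WellFounded.has_min (wellFounded_lt (α := Submodule K V))
    {W | W ≤ E ∧ W ≠ ⊥ ∧ ∀ u, ∀ v ∈ W, ρ u v ∈ W} ⟨E, le_rfl, hcc, hEQ⟩
  refine ⟨W, hW0, hWQ, fun v hv => ?_, fun W' h1 h2 h3 => ?_⟩
  · have hUW : ∀ x ∈ W, U x ∈ W := fun x hx => by
      rw [hU, LinearMap.sum_apply]
      exact Submodule.sum_mem _ fun u _ => hWQ _ x hx
    have hsurj : Function.Surjective (U.restrict hUW) := by
      refine LinearMap.injective_iff_surjective.mp ?_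
      intro x y hxy
      apply Subtype.ext
      have h1 : U x.1 = U y.1 := congrArg Subtype.val hxy
      rw [← sub_eq_zero, ← map_sub] at h1
      exact sub_eq_zero.mp (hUinj _ h1)
    obtain ⟨⟨v', hv'⟩, hvv⟩ := hsurj ⟨cc • v, W.smul_mem _ hv⟩
    have h1 : U v' = U (S v) := by
      have h2 : C v = cc • v := Module.End.mem_eigenspace_iff.mp (hWE hv)
      exact (congrArg Subtype.val hvv).trans h2.symm
    rw [← sub_eq_zero, ← map_sub] at h1
    rw [← sub_eq_zero.mp (hUinj _ h1)]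
    exact hv'
  · by_contra hne
    exact hWmin W' ⟨h1.trans hWE, h2, h3⟩ (lt_of_le_of_ne h1 hne)

end Setup

end Cfsg.Agent.ShultGross
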