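import Mathlib

/-!
Arithmetic for fixed-point-free automorphisms of odd prime power order.
-/

set_option autoImplicit false

namespace Cfsg.Agent.ShultGross

/-- The only exceptional degree. -/
theorem degree_eq {p q m d t e : ℕ} (hp : p.Prime) (hp2 : p ≠ 2) (hq : q.Prime) (hd : 2 ≤ d)
    (hle : d ≤ p ^ m - 1) (ht : d * d = 1 + p ^ m * t) (he : d * d = q ^ e) :
    q = 2 ∧ ∃ b, 1 ≤ b ∧ d = 2 ^ b ∧ 2 ^ b + 1 = p ^ m := by
  set N := p ^ m with hN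
  have hodd : Odd N := (hp.odd_of_ne_two hp2).pow
  obtain ⟨d0, rfl⟩ : ∃ d0, d = d0 + 1 := ⟨d - 1, by omega⟩
  have hprod : N ∣ d0 * (d0 + 2) := ⟨t, by nlinarith⟩
  have hor : N ∣ d0 ∨ N ∣ d0 + 2 := by
    by_cases h : p ∣ d0
    · left
      have h2 : ¬ p ∣ d0 + 2 := fun h' =>
        hp2 ((Nat.prime_dvd_prime_iff_eq hp Nat.prime_two).mp ((Nat.dvd_add_right h).mp h'))
      exact ((hp.coprime_iff_not_dvd.mpr h2).pow_left m).dvd_of_dvd_mul_right hprod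
    · right
      exact ((hp.coprime_iff_not_dvd.mpr h).pow_left m).dvd_of_dvd_mul_left hprod
  have hdN : d0 + 2 = N := by
    rcases hor with h | h
    · have := Nat.le_of_dvd (by omega) h
      omega
    · have := Nat.le_of_dvd (by omega) h
      omega
  have heven : Even (d0 + 1) := by
    obtain ⟨c, hc⟩ := hodd
    exact ⟨c, by omega⟩
  have hq2 : q = 2 := by
    have h2 : 2 ∣ q ^ e := he ▸ (heven.two_dvd.mul_right _)
    exact ((Nat.prime_dvd_prime_iff_eq Nat.prime_two hq).mp (Nat.prime_two.dvd_of_dvd_pow h2)).symm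
  subst hq2
  refine ⟨rfl, ?_⟩
  obtain ⟨b, -, hb⟩ := (Nat.dvd_prime_pow Nat.prime_two).mp (Dvd.intro _ he : d0 + 1 ∣ 2 ^ e)
  refine ⟨b, ?_, hb, ?_⟩
  · rcases Nat.eq_zero_or_pos b with rfl | h
    · simp only [pow_zero] at hb; omega
    · exact h
  · rw [← hb]; omega

theorem two_mul_dvd_of_dvd {b D N : ℕ} (hb : 1 ≤ b) (hN : N = 2 ^ b + 1) (h : N ∣ 2 ^ D - 1) :
    2 * b ∣ D := by
  have hNd : N ∣ 2 ^ (2 * b) - 1 := ⟨2 ^ b - 1, by
    have h1 : 1 ≤ 2 ^ b := Nat.one_le_two_pow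
    have h2 := Nat.sq_sub_sq (2 ^ b) 1
    rw [hN, two_mul, pow_add, ← pow_two, ← h2]⟩
  set t := D / (2 * b)
  set r := D % (2 * b) with hr
  have hrlt : r < 2 * b := Nat.mod_lt _ (by omega)
  have hD : D = 2 * b * t + r := (Nat.div_add_mod D (2 * b)).symm
  have hm : ∀ {x : ℕ}, 1 ≤ x → N ∣ x - 1 → x ≡ 1 [MOD N] := fun hx h =>
    ((Nat.modEq_iff_dvd' hx).mpr h).symm
  have h1 : 2 ^ D ≡ 1 [MOD N] := hm Nat.one_le_two_pow h
  have h2 : 2 ^ (2 * b) ≡ 1 [MOD N] := hm Nat.one_le_two_pow hNd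
  have h3 : 2 ^ r ≡ 1 [MOD N] := by
    have h4 := (h2.pow t).mul_right (2 ^ r)
    rw [one_pow, one_mul, ← pow_mul, ← pow_add, ← hD] at h4
    exact h4.symm.trans h1
  have h4 : N ∣ 2 ^ r - 1 := (Nat.modEq_iff_dvd' Nat.one_le_two_pow).mp h3.symm
  refine Nat.dvd_of_mod_eq_zero ?_
  rw [← hr]
  by_contra hr0
  clear_value r
  rcases le_or_gt r b with hrb | hrb
  · have h5 := Nat.pow_le_pow_right (two_pos) hrb
    have h6 : 2 ≤ 2 ^ r := le_self_pow₀ one_le_two hr0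
    have h7 := Nat.le_of_dvd (by omega) h4
    omega
  · obtain ⟨s, rfl⟩ : ∃ s, r = b + s := ⟨r - b, by omega⟩
    have hs : s < b := by omega
    have h8 : N ∣ 2 ^ s + 1 := by
      have e : 2 ^ (b + s) - 1 + (2 ^ s + 1) = N * 2 ^ s := by
        have := Nat.one_le_two_pow (n := b + s)
        rw [hN, add_mul, one_mul, ← pow_add]
        omega
      exact (Nat.dvd_add_right h4).mp (e ▸ Dvd.intro _ rfl)
    have h9 := Nat.le_of_dvd (Nat.succ_pos _) h8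
    have h10 := Nat.pow_lt_pow_right (by norm_num : 1 < 2) hs
    omega

/-- The order of `2` modulo `p ^ (m + k)` when `p ^ m = 2 ^ b + 1`. -/
theorem order_two_le {p m k b D : ℕ} (hp : p.Prime) (hp2 : p ≠ 2) (hm : 1 ≤ m) (hb : 1 ≤ b)
    (hN : 2 ^ b + 1 = p ^ m) (hD : D ≠ 0) (h : p ^ (m + k) ∣ 2 ^ D - 1) :
    2 * b * p ^ k ≤ D := by
  haveI := Fact.mk hp
  have hNd : p ^ m ∣ 2 ^ D - 1 := (pow_dvd_pow p (Nat.le_add_right m k)).trans h
  obtain ⟨t, rfl⟩ := two_mul_dvd_of_dvd hb hN.symm hNd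
  have ht : t ≠ 0 := right_ne_zero_of_mul hD
  have hpb : ¬ p ∣ 2 ^ b - 1 := fun hd => by
    have hd2 : p ∣ 2 ^ b + 1 := hN ▸ dvd_pow_self p (by omega)
    have h1 : 1 ≤ 2 ^ b := Nat.one_le_two_pow
    have h2 := Nat.dvd_sub hd2 hd
    rw [show 2 ^ b + 1 - (2 ^ b - 1) = 2 by omega] at h2
    exact hp2 ((Nat.prime_dvd_prime_iff_eq hp Nat.prime_two).mp h2)
  have hfac : 2 ^ (2 * b) - 1 = p ^ m * (2 ^ b - 1) := by
    have h2 := Nat.sq_sub_sq (2 ^ b) 1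
    rw [← hN, two_mul, pow_add, ← pow_two, ← h2]
  have h2p : ¬ p ∣ 2 ^ (2 * b) := fun hd =>
    hp2 ((Nat.prime_dvd_prime_iff_eq hp Nat.prime_two).mp (hp.dvd_of_dvd_pow hd))
  have hlt : 1 < 2 ^ (2 * b) := Nat.one_lt_two_pow (by omega)
  have e := padicValNat.pow_sub_pow (p := p) (hp.odd_of_ne_two hp2) hlt
    (hfac ▸ (dvd_pow_self p (by omega : m ≠ 0)).mul_right _) h2p ht
  rw [one_pow, ← pow_mul, hfac, padicValNat.mul (pow_ne_zero _ hp.ne_zero)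
    (by intro h0; exact hpb (h0 ▸ dvd_zero p)), padicValNat.prime_pow,
    padicValNat.eq_zero_of_not_dvd hpb, add_zero] at e
  have hne : 2 ^ (2 * b * t) - 1 ≠ 0 := by
    have := Nat.one_lt_two_pow hD
    omega
  have h5 := (padicValNat_dvd_iff_le hne).mp h
  rw [e] at h5
  have h6 : p ^ k ∣ t := (padicValNat_dvd_iff_le ht).mpr (by omega)
  exact Nat.mul_le_mul_left _ (Nat.le_of_dvd (Nat.pos_of_ne_zero ht) h6)

end Cfsg.Agent.ShultGross
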